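import Cfsg.Agent.CharactersDeep.SchurAltPerm
import Cfsg.Agent.H173.PresChange
import Cfsg.Agent.SmallSimple.Carmichael
set_option linter.all false

-- part: H173/TwoGen
section
/-!
# Two generators of `Alt α` and `Sym α`, the first one a given 3-cycle (helper173)

* `exists_alt` : for a 3-cycle `t` there is `g` with `⟨t, g⟩ = Alt α`;
* `exists_perm` : and `g'` with `⟨t, g'⟩ = Sym α`.
-/

set_option autoImplicit false

namespace Cfsg.Agent.H173.TwoGen

open Equiv Equiv.Perm Subgroup Cfsg.Agent.CharactersDeep.SchurAltPerm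

variable {α : Type*} [DecidableEq α]

theorem x_swap {o l c : α} (h1 : c ≠ o) (h2 : c ≠ l) : x l o c = (x o l c)⁻¹ := by
  rw [x_inv, x_def]
  have h := conj_swap (swap o l) o c
  rw [swap_apply_left, swap_apply_of_ne_of_ne h1 h2] at h
  rw [← h, Equiv.swap_comm l o]
  group

/-- every 3-cycle is `(o l c)` -/
theorem exists_x [Fintype α] {t : Perm α} (ht : t.IsThreeCycle) :
    ∃ o l c, o ≠ l ∧ o ≠ c ∧ l ≠ c ∧ t = x o l c := by
  obtain ⟨a, ha⟩ : t.support.Nonempty := by
    rw [← Finset.card_pos, ht.card_support]; norm_num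
  have h1 := ht.eq_swap_mul_swap_iff_mem_support.2 ha
  have h2 := ht.nodup_iff_mem_support.2 ha
  simp only [List.nodup_cons, List.mem_cons, List.not_mem_nil, or_false, not_or, List.nodup_nil, and_true,
    not_false_eq_true] at h2
  refine ⟨a, t a, t (t a), h2.1.1, h2.1.2, h2.2, ?_⟩
  rw [x_def]
  conv_lhs => rw [h1]
  have h := conj_swap (swap a (t a)) (t a) (t (t a))
  rw [swap_apply_right, swap_apply_of_ne_of_ne (Ne.symm h2.1.2) (Ne.symm h2.2)] at h
  rw [← h]
  group

/-- a permutation fixing `o`, `l` and transitive on the rest -/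
theorem exists_trans [Fintype α] (o l : α) :
    ∃ γ : Perm α, γ o = o ∧ γ l = l ∧ ∀ c d, c ≠ o → c ≠ l → d ≠ o → d ≠ l → ∃ i : ℤ, (γ ^ i) c = d := by
  obtain ⟨f, hf, hs⟩ := Finset.exists_cycleOn (Finset.univ \ {o, l} : Finset α)
  refine ⟨f, ?_, ?_, ?_⟩
  · by_contra h
    have := hs (mem_support.2 h)
    simp at this
  · by_contra h
    have := hs (mem_support.2 h)
    simp at this
  · intro c d h1 h2 h3 h4
    exact hf.2 (by simp [h1, h2]) (by simp [h3, h4])

/-- the group generated by the 3-cycle `(o l c)` and `γ` or `γ (o l)` contains the alternating group -/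
theorem alt_le [Fintype α] {o l c : α} (hol : o ≠ l) (hoc : o ≠ c) (hlc : l ≠ c) (γ e : Perm α)
    (h1 : γ o = o) (h2 : γ l = l) (h3 : ∀ c d, c ≠ o → c ≠ l → d ≠ o → d ≠ l → ∃ i : ℤ, (γ ^ i) c = d)
    (he : e = 1 ∨ e = swap o l) : alternatingGroup α ≤ closure {x o l c, γ * e} := by
  apply alternating_le_closure_x hol
  intro d hd1 hd2
  obtain ⟨i, hi⟩ := h3 c d hoc.symm hlc.symm hd1 hd2
  have hcomm : Commute γ e := by
    rcases he with rfl | rfl
    · exact Commute.one_right _
    · change γ * swap o l = swap o l * γ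
      have := conj_swap γ o l
      rw [h1, h2] at this
      calc γ * swap o l = (γ * swap o l * γ⁻¹) * γ := by group
        _ = swap o l * γ := by rw [this]
  have hec : e c = c := by
    rcases he with rfl | rfl
    · rfl
    · exact swap_apply_of_ne_of_ne hoc.symm hlc.symm
  have hpow : (γ * e) ^ i = γ ^ i * e ^ i := hcomm.mul_zpow i
  have hg1 : (γ ^ i) o = o := Equiv.Perm.zpow_apply_eq_self_of_apply_eq_self h1 i
  have hg2 : (γ ^ i) l = l := Equiv.Perm.zpow_apply_eq_self_of_apply_eq_self h2 i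
  have hcd : ((γ * e) ^ i) c = d := by
    rw [hpow, Perm.mul_apply, Equiv.Perm.zpow_apply_eq_self_of_apply_eq_self hec, hi]
  have hei : e ^ i = 1 ∨ e ^ i = swap o l := by
    rcases he with rfl | rfl
    · left; exact one_zpow i
    · rcases Int.even_or_odd i with hi | hi
      · left
        obtain ⟨k, rfl⟩ := hi
        rw [zpow_add, ← (Commute.refl (swap o l)).mul_zpow, swap_mul_self, one_zpow]
      · right
        obtain ⟨k, rfl⟩ := hi
        rw [zpow_add, zpow_mul, zpow_one]
        simp [pow_two, swap_mul_self]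
  have hmem : ((γ * e) ^ i) * x o l c * ((γ * e) ^ i)⁻¹ ∈ closure {x o l c, γ * e} := by
    have hz : (γ * e) ^ i ∈ closure {x o l c, γ * e} := zpow_mem (subset_closure (by simp)) i
    exact mul_mem (mul_mem hz (subset_closure (by simp))) (inv_mem hz)
  rw [conj_x, hcd] at hmem
  rcases hei with h | h
  · have ho : ((γ * e) ^ i) o = o := by rw [hpow, h, mul_one, hg1]
    have hl : ((γ * e) ^ i) l = l := by rw [hpow, h, mul_one, hg2]
    rwa [ho, hl] at hmem
  · have ho : ((γ * e) ^ i) o = l := by rw [hpow, h, Perm.mul_apply, swap_apply_left, hg2]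
    have hl : ((γ * e) ^ i) l = o := by rw [hpow, h, Perm.mul_apply, swap_apply_right, hg1]
    rw [ho, hl, x_swap hd1 hd2] at hmem
    have := inv_mem hmem
    rwa [inv_inv] at this

theorem exists_alt_le [Fintype α] {t : Perm α} (ht : t.IsThreeCycle) (s : ℤˣ) :
    ∃ g : Perm α, Perm.sign g = s ∧ alternatingGroup α ≤ closure {t, g} := by
  obtain ⟨o, l, c, hol, hoc, hlc, rfl⟩ := exists_x ht
  obtain ⟨γ, h1, h2, h3⟩ := exists_trans o l
  by_cases h : Perm.sign γ = s
  · exact ⟨γ * 1, by rw [mul_one, h], alt_le hol hoc hlc γ 1 h1 h2 h3 (Or.inl rfl)⟩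
  · refine ⟨γ * swap o l, ?_, alt_le hol hoc hlc γ _ h1 h2 h3 (Or.inr rfl)⟩
    rw [map_mul, Perm.sign_swap hol]
    rcases Int.units_eq_one_or (Perm.sign γ) with h4 | h4 <;> rcases Int.units_eq_one_or s with h5 | h5 <;>
      simp_all

/-- **(a), alternating**: a given 3-cycle is a member of a generating pair of `Alt α`. -/
theorem exists_alt [Fintype α] (t : alternatingGroup α) (ht : (t : Perm α).IsThreeCycle) :
    ∃ g : alternatingGroup α, closure {t, g} = ⊤ := by
  obtain ⟨g, hg, h⟩ := exists_alt_le ht 1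
  refine ⟨⟨g, hg⟩, ?_⟩
  rw [eq_top_iff]
  intro y _
  have h1 := h y.2
  have e : closure ({(t : Perm α), g} : Set (Perm α)) =
      (closure ({t, ⟨g, hg⟩} : Set (alternatingGroup α))).map (alternatingGroup α).subtype := by
    rw [MonoidHom.map_closure, Set.image_pair]
    rfl
  rw [e] at h1
  obtain ⟨z, hz, hzy⟩ := h1
  rwa [← Subtype.ext hzy]

/-- **(a), symmetric**: a given 3-cycle is a member of a generating pair of `Sym α`. -/
theorem exists_perm [Fintype α] (t : Perm α) (ht : t.IsThreeCycle) :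
    ∃ g : Perm α, closure {t, g} = ⊤ := by
  obtain ⟨g, hg, h⟩ := exists_alt_le ht (-1)
  refine ⟨g, ?_⟩
  rw [eq_top_iff]
  intro y _
  rcases Int.units_eq_one_or (Perm.sign y) with h4 | h4
  · exact h h4
  · have h5 : y * g⁻¹ ∈ closure {t, g} := by
      apply h
      rw [mem_alternatingGroup, map_mul, Perm.sign_inv, h4, hg]
      rfl
    have h6 := mul_mem h5 (subset_closure (show g ∈ ({t, g} : Set (Perm α)) by simp))
    simpa using h6

/-- there are 3-cycles if there are at least three points -/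
theorem exists_isThreeCycle [Fintype α] (h : 3 ≤ Fintype.card α) : ∃ t : Perm α, t.IsThreeCycle := by
  obtain ⟨a, b, c, hab, hac, hbc⟩ := Fintype.two_lt_card_iff.1 (show 2 < Fintype.card α by omega)
  exact ⟨x a b c, x_isThreeCycle hab hac hbc⟩

end Cfsg.Agent.H173.TwoGen
end

-- part: H173/PresSmall
section
/-!
# Tight presentations of the small symmetric and alternating groups (helper173)

`card_le_of_carmichael` : Carmichael's two generator presentations, abstractly: `a ^ 3 = 1`,
`x k = s⁻ᵏ a^(eᵏ) sᵏ`, `x N = x 0`, `(x 0 * x k)² = 1` for `1 ≤ k ≤ N / 2`, `s ^ j` in the group generated by the `x k`: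
then `|⟨a, s⟩| ≤ j (N + 2)! / 2`.
-/

set_option autoImplicit false

namespace Cfsg.Agent.H173.Pres

open Cfsg.Agent.H111

section Bound

variable {Γ : Type*} [Group Γ]

/-- the elements `x k` -/
def xs (a s : Γ) (e : ℤ) (k : ℕ) : Γ := (s ^ k)⁻¹ * a ^ (e ^ k) * s ^ k

theorem xs_zero (a s : Γ) (e : ℤ) : xs a s e 0 = a := by simp [xs]

theorem xs_succ (a s : Γ) (e : ℤ) (k : ℕ) : xs a s e (k + 1) = (s⁻¹ * xs a s e k * s) ^ e := by
  have h : s⁻¹ * xs a s e k * s = (s ^ (k + 1))⁻¹ * a ^ (e ^ k) * s ^ (k + 1) := by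
    rw [xs, pow_succ]; group
  have h1 : ∀ (g y : Γ) (m : ℤ), (g⁻¹ * y * g) ^ m = g⁻¹ * y ^ m * g := by
    intro g y m
    have := conj_zpow (i := m) (a := g⁻¹) (b := y)
    simpa using this
  rw [h, h1, ← zpow_mul, ← pow_succ, xs]

theorem sq_comm_one {u v : Γ} (h : (u * v) ^ 2 = 1) : (v * u) ^ 2 = 1 := by
  have : (v * u) ^ 2 = u⁻¹ * (u * v) ^ 2 * u := by rw [pow_two, pow_two]; group
  rw [this, h]; group

theorem card_le_of_carmichael (a s : Γ) (e : ℤ) (he : e = 1 ∨ e = -1) (N : ℕ) (hN : 1 ≤ N) (h3 : a ^ 3 = 1)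
    (hper : xs a s e N = a) (h2 : ∀ k, 1 ≤ k → 2 * k ≤ N → (a * xs a s e k) ^ 2 = 1) (j : ℕ) (hj : 0 < j)
    (hs : ∀ M : Subgroup Γ, M.Normal → a ∈ M → s ^ j ∈ M) (hgen : Subgroup.closure {a, s} = ⊤) :
    Finite Γ ∧ Nat.card Γ * 2 ≤ j * (N + 2).factorial := by
  classical
  set x := xs a s e with hx
  have hx0 : x 0 = a := xs_zero a s e
  have hxs : ∀ k, x (k + 1) = (s⁻¹ * x k * s) ^ e := xs_succ a s e
  have hper' : ∀ k, x (k + N) = x k := by
    intro k
    induction k with
    | zero => rw [zero_add, hx0]; exact hper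
    | succ k ih => rw [show k + 1 + N = (k + N) + 1 by omega, hxs, ih, ← hxs]
  have hmul : ∀ k i, x (k + i * N) = x k := by
    intro k i
    induction i with
    | zero => simp
    | succ i ih => rw [show k + (i + 1) * N = (k + i * N) + N by ring, hper', ih]
  have hmod : ∀ k, x k = x (k % N) := by
    intro k
    conv_lhs => rw [← Nat.mod_add_div k N, mul_comm]
    exact hmul _ _
  have h3' : ∀ k, x k ^ 3 = 1 := by
    intro k
    rw [hx, xs]
    have h1 : ∀ (g y : Γ) (m : ℕ), (g⁻¹ * y * g) ^ m = g⁻¹ * y ^ m * g := by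
      intro g y m
      have := conj_pow (i := m) (a := g⁻¹) (b := y)
      simpa using this
    have h5 : (a ^ (e ^ k)) ^ 3 = (a ^ 3) ^ (e ^ k) := by
      rw [← zpow_natCast, ← zpow_natCast, ← zpow_mul, ← zpow_mul, mul_comm]
    rw [h1, h5, h3, one_zpow, mul_one, inv_mul_cancel]
  have hshift : ∀ i j, (x i * x j) ^ 2 = 1 → (x (i + 1) * x (j + 1)) ^ 2 = 1 := by
    intro i j hij
    rw [hxs, hxs]
    rcases he with rfl | rfl
    · rw [zpow_one, zpow_one]
      have : (s⁻¹ * x i * s * (s⁻¹ * x j * s)) ^ 2 = s⁻¹ * (x i * x j) ^ 2 * s := by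
        rw [pow_two, pow_two]; group
      rw [this, hij]; group
    · have h5 := sq_comm_one hij
      have : ((s⁻¹ * x i * s) ^ (-1 : ℤ) * (s⁻¹ * x j * s) ^ (-1 : ℤ)) ^ 2 = s⁻¹ * ((x j * x i) ^ 2)⁻¹ * s := by
        rw [pow_two, pow_two]; group
      rw [this, h5]; group
  have hk : ∀ i k, 1 ≤ k → 2 * k ≤ N → (x i * x (i + k)) ^ 2 = 1 := by
    intro i k h1 hk
    induction i with
    | zero => rw [zero_add, hx0]; exact h2 k h1 hk
    | succ i ih => rw [show i + 1 + k = (i + k) + 1 by omega]; exact hshift _ _ ih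
  have hk' : ∀ i k, 1 ≤ k → k < N → (x i * x (i + k)) ^ 2 = 1 := by
    intro i k h1 h4
    by_cases h5 : 2 * k ≤ N
    · exact hk i k h1 h5
    · have h6 := hk (i + k) (N - k) (by omega) (by omega)
      rw [show i + k + (N - k) = i + N by omega, hper'] at h6
      exact sq_comm_one h6
  let y : Fin N → Γ := fun i => x i
  have hy2 : ∀ i j : Fin N, i ≠ j → (y i * y j) ^ 2 = 1 := by
    intro i j hij
    rcases lt_or_gt_of_ne (fun h => hij (Fin.ext h) : (i : ℕ) ≠ j) with h | h
    · have := hk' i (j - i) (by omega) (by omega)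
      rwa [show (i : ℕ) + (j - i) = j by omega] at this
    · have := hk' j (i - j) (by omega) (by omega)
      rw [show (j : ℕ) + (i - j) = i by omega] at this
      exact sq_comm_one this
  obtain ⟨hc, hfin⟩ := Cfsg.Agent.SmallSimple.Carmichael.card_le y (fun i => h3' i) hy2 Finset.univ
  rw [Finset.coe_univ, Set.image_univ, Finset.card_univ, Fintype.card_fin] at hc
  rw [Finset.coe_univ, Set.image_univ] at hfin
  have hrange : Set.range y = Set.range x := by
    apply Set.Subset.antisymm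
    · rintro _ ⟨i, rfl⟩; exact ⟨i, rfl⟩
    · rintro _ ⟨k, rfl⟩
      exact ⟨⟨k % N, Nat.mod_lt _ (by omega)⟩, (hmod k).symm⟩
  rw [hrange] at hc hfin
  set M := Subgroup.closure (Set.range x) with hM
  have hxM : ∀ k, x k ∈ M := fun k => Subgroup.subset_closure ⟨k, rfl⟩
  have hee : ∀ g : Γ, (g ^ e) ^ e = g := by
    intro g
    rcases he with rfl | rfl <;> simp
  have hconj1 : ∀ k, s⁻¹ * x k * s ∈ M := by
    intro k
    rw [← hee (s⁻¹ * x k * s), ← hxs]
    exact zpow_mem (hxM _) _
  have hconj2 : ∀ k, s * x k * s⁻¹ ∈ M := by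
    intro k
    have h5 : x k = (s⁻¹ * x (k + N - 1) * s) ^ e := by
      rw [← hxs, show k + N - 1 + 1 = k + N by omega, hper']
    have h6 : s * x k * s⁻¹ = (x (k + N - 1)) ^ e := by
      rw [h5]
      rcases he with rfl | rfl
      · rw [zpow_one, zpow_one]; group
      · group
    rw [h6]
    exact zpow_mem (hxM _) _
  have hnorm : M.Normal := by
    have hle : (⊤ : Subgroup Γ) ≤ Subgroup.normalizer (M : Set Γ) := by
      rw [← hgen, Subgroup.closure_le]
      rintro g (hg | hg)
      · rw [hg]; exact Subgroup.le_normalizer (by rw [← hx0]; exact hxM 0)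
      · rw [Set.mem_singleton_iff] at hg
        rw [hg, SetLike.mem_coe, Subgroup.mem_normalizer_iff]
        intro h
        constructor
        · intro hh
          have : M ≤ M.comap (MulAut.conj s).toMonoidHom := by
            rw [hM, Subgroup.closure_le]
            rintro _ ⟨k, rfl⟩
            exact hconj2 k
          exact this hh
        · intro hh
          have : M ≤ M.comap (MulAut.conj s⁻¹).toMonoidHom := by
            rw [hM, Subgroup.closure_le]
            rintro _ ⟨k, rfl⟩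
            have := hconj1 k
            simpa using this
          have h7 := this hh
          have h8 : s⁻¹ * (s * h * s⁻¹) * s ∈ M := by simpa using h7
          have h9 : s⁻¹ * (s * h * s⁻¹) * s = h := by group
          rwa [h9] at h8
    exact Subgroup.normalizer_eq_top_iff.1 (top_le_iff.1 hle)
  have hq : Subgroup.zpowers ((s : Γ) : Γ ⧸ M) = ⊤ := by
    have h5 : (Subgroup.closure {a, s}).map (QuotientGroup.mk' M) ≤ Subgroup.zpowers ((s : Γ) : Γ ⧸ M) := by
      rw [MonoidHom.map_closure, Subgroup.closure_le]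
      rintro _ ⟨g, (hg | hg), rfl⟩
      · have : (QuotientGroup.mk' M) g = 1 := (QuotientGroup.eq_one_iff g).2 (by rw [hg, ← hx0]; exact hxM 0)
        rw [this]; exact one_mem _
      · rw [Set.mem_singleton_iff] at hg
        rw [hg]
        exact Subgroup.mem_zpowers _
    rw [hgen, ← MonoidHom.range_eq_map, MonoidHom.range_eq_top.2 (QuotientGroup.mk'_surjective M)] at h5
    exact top_le_iff.1 h5
  have hone : ((s : Γ) : Γ ⧸ M) ^ j = 1 := by
    rw [← QuotientGroup.mk_pow]
    exact (QuotientGroup.eq_one_iff _).2 (hs M hnorm (by rw [← hx0]; exact hxM 0))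
  have hfo : IsOfFinOrder ((s : Γ) : Γ ⧸ M) := isOfFinOrder_iff_pow_eq_one.2 ⟨j, hj, hone⟩
  have hcardq : Nat.card (Γ ⧸ M) = orderOf ((s : Γ) : Γ ⧸ M) := by
    rw [← Nat.card_zpowers, hq, Subgroup.card_top]
  have hle : Nat.card (Γ ⧸ M) ≤ j := by
    rw [hcardq]; exact orderOf_le_of_pow_eq_one hj hone
  have hpos : 0 < Nat.card (Γ ⧸ M) := by rw [hcardq]; exact hfo.orderOf_pos
  have hfinq : Finite (Γ ⧸ M) := (Nat.card_pos_iff.1 hpos).2
  have hfinΓ : Finite Γ := by
    have : Finite (Γ ⧸ M) := hfinq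
    have : Finite M := hfin
    exact Finite.of_equiv _ (Subgroup.groupEquivQuotientProdSubgroup (s := M)).symm
  refine ⟨hfinΓ, ?_⟩
  rw [Subgroup.card_eq_card_quotient_mul_card_subgroup M, mul_assoc]
  exact Nat.mul_le_mul hle hc

/-- `(s * a) ^ m ∈ s ^ m M` -/
theorem mul_pow_mem {M : Subgroup Γ} [M.Normal] {a s : Γ} (ha : a ∈ M) (m : ℕ) (h : (s * a) ^ m = 1) :
    s ^ m ∈ M := by
  have h1 : ((s * a : Γ) : Γ ⧸ M) ^ m = 1 := by
    rw [← QuotientGroup.mk_pow, h]; rfl
  have h2 : ((s * a : Γ) : Γ ⧸ M) = ((s : Γ) : Γ ⧸ M) := by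
    rw [QuotientGroup.mk_mul, (QuotientGroup.eq_one_iff a).2 ha, mul_one]
  rw [h2, ← QuotientGroup.mk_pow] at h1
  exact (QuotientGroup.eq_one_iff _).1 h1

end Bound

/-- the criterion by orders -/
theorem PresOn.of_card {ι G : Type*} [Group G] [Finite G] (g : ι → G) (hg : Subgroup.closure (Set.range g) = ⊤)
    (L : List (FreeGroup ι)) (hL : ∀ r ∈ L, FreeGroup.lift g r = 1)
    (h : ∀ y : ι → FreeGroup ι ⧸ Subgroup.normalClosure {r | r ∈ L}, Subgroup.closure (Set.range y) = ⊤ →
      (∀ r ∈ L, FreeGroup.lift y r = 1) → Finite (FreeGroup ι ⧸ Subgroup.normalClosure {r | r ∈ L}) ∧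
        Nat.card (FreeGroup ι ⧸ Subgroup.normalClosure {r | r ∈ L}) ≤ Nat.card G) : PresOn g L.length := by
  classical
  have hsurj := surj_of_closure g hg
  refine ⟨hsurj, L.toFinset, List.toFinset_card_le L, ?_⟩
  have hset : (↑L.toFinset : Set (FreeGroup ι)) = {r | r ∈ L} := by ext; simp
  rw [hset]
  have hle : Subgroup.normalClosure {r | r ∈ L} ≤ (FreeGroup.lift g).ker :=
    Subgroup.normalClosure_le_normal fun r hr => hL r hr
  refine le_antisymm ?_ hle
  let y : ι → FreeGroup ι ⧸ Subgroup.normalClosure {r | r ∈ L} := fun i => QuotientGroup.mk' _ (FreeGroup.of i)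
  have hy : FreeGroup.lift y = QuotientGroup.mk' (Subgroup.normalClosure {r | r ∈ L}) := by
    ext i; simp [y]
  obtain ⟨h1, h2⟩ := h y (by
      rw [← FreeGroup.range_lift_eq_closure, hy, MonoidHom.range_eq_top]
      exact QuotientGroup.mk'_surjective _)
    (fun r hr => by
      rw [hy]
      exact (QuotientGroup.eq_one_iff r).2 (Subgroup.subset_normalClosure hr))
  let θ := QuotientGroup.lift (Subgroup.normalClosure {r | r ∈ L}) (FreeGroup.lift g) hle
  have hθ : Function.Surjective θ := by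
    intro z
    obtain ⟨w, hw⟩ := hsurj z
    exact ⟨QuotientGroup.mk' _ w, hw⟩
  have hinj : Function.Injective θ := by
    have hbij : Function.Bijective θ :=
      (Nat.bijective_iff_surjective_and_card θ).2 ⟨hθ, le_antisymm h2 (Nat.card_le_card_of_surjective θ hθ)⟩
    exact hbij.1
  intro w hw
  have : (QuotientGroup.mk' (Subgroup.normalClosure {r | r ∈ L})) w = 1 := by
    apply hinj
    rw [map_one]
    exact hw
  exact (QuotientGroup.eq_one_iff w).1 this

theorem range_pair {α : Type*} (a b : α) : Set.range ![a, b] = {a, b} := by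
  rw [Matrix.range_cons, Matrix.range_cons, Matrix.range_empty, Set.union_empty]
  rfl

theorem range_fin_two {α : Type*} (y : Fin 2 → α) : Set.range y = {y 0, y 1} := by
  ext z
  constructor
  · rintro ⟨i, rfl⟩
    fin_cases i <;> simp
  · rintro (rfl | rfl) <;> exact ⟨_, rfl⟩

open Equiv Cfsg.Agent.CharactersDeep.SchurAltPerm in
/-- generation -/
theorem closure_perm {n : ℕ} (a γ e : Perm (Fin n)) (o l c : Fin n) (ha : a = x o l c) (hol : o ≠ l) (hoc : o ≠ c)
    (hlc : l ≠ c) (h1 : γ o = o) (h2 : γ l = l)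
    (h3 : ∀ c d, c ≠ o → c ≠ l → d ≠ o → d ≠ l → ∃ i : Fin n, (γ ^ (i : ℕ)) c = d)
    (he : e = 1 ∨ e = swap o l) (hs : Perm.sign (γ * e) = -1) :
    Subgroup.closure {a, γ * e} = (⊤ : Subgroup (Perm (Fin n))) := by
  have h := TwoGen.alt_le hol hoc hlc γ e h1 h2 (fun c d x1 x2 x3 x4 => by
    obtain ⟨i, hi⟩ := h3 c d x1 x2 x3 x4
    exact ⟨((i : ℕ) : ℤ), by rw [zpow_natCast]; exact hi⟩) he
  rw [← ha] at h
  rw [eq_top_iff]
  intro y _
  rcases Int.units_eq_one_or (Perm.sign y) with h4 | h4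
  · exact h h4
  · have h5 : y * (γ * e)⁻¹ ∈ Subgroup.closure {a, γ * e} := by
      apply h
      rw [Perm.mem_alternatingGroup, map_mul, Perm.sign_inv, h4, hs]
      rfl
    have h6 := mul_mem h5 (Subgroup.subset_closure (show γ * e ∈ ({a, γ * e} : Set (Perm (Fin n))) by simp))
    rwa [inv_mul_cancel_right] at h6

open Equiv Cfsg.Agent.CharactersDeep.SchurAltPerm in
theorem closure_alt {n : ℕ} (a s : alternatingGroup (Fin n)) (γ e : Perm (Fin n)) (o l c : Fin n)
    (hs : (s : Perm (Fin n)) = γ * e)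
    (ha : (a : Perm (Fin n)) = x o l c) (hol : o ≠ l) (hoc : o ≠ c)
    (hlc : l ≠ c) (h1 : γ o = o) (h2 : γ l = l)
    (h3 : ∀ c d, c ≠ o → c ≠ l → d ≠ o → d ≠ l → ∃ i : Fin n, (γ ^ (i : ℕ)) c = d)
    (he : e = 1 ∨ e = swap o l) : Subgroup.closure {a, s} = (⊤ : Subgroup (alternatingGroup (Fin n))) := by
  have h := TwoGen.alt_le hol hoc hlc γ e h1 h2 (fun c d x1 x2 x3 x4 => by
    obtain ⟨i, hi⟩ := h3 c d x1 x2 x3 x4
    exact ⟨((i : ℕ) : ℤ), by rw [zpow_natCast]; exact hi⟩) he
  rw [← ha, ← hs] at h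
  rw [eq_top_iff]
  intro y _
  have h1 := h y.2
  have e : Subgroup.closure ({(a : Perm (Fin n)), (s : Perm (Fin n))} : Set (Perm (Fin n))) =
      (Subgroup.closure ({a, s} : Set (alternatingGroup (Fin n)))).map (alternatingGroup (Fin n)).subtype := by
    rw [MonoidHom.map_closure, Set.image_pair]
    rfl
  rw [e] at h1
  obtain ⟨z, hz, hzy⟩ := h1
  rwa [← Subtype.ext hzy]

/-- the first generator of the free group of rank two -/
abbrev A : FreeGroup (Fin 2) := FreeGroup.of 0

/-- the second generator of the free group of rank two -/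
abbrev B : FreeGroup (Fin 2) := FreeGroup.of 1

/-- `(s * a) ^ m = 1` and `s ^ r = 1`: then `s ^ j ∈ M` if `m u = r v + j` -/
theorem pow_mem_of {Γ : Type*} [Group Γ] {M : Subgroup Γ} (hM : M.Normal) {a s : Γ} (ha : a ∈ M) (m r j u v : ℕ)
    (h : (s * a) ^ m = 1) (hr : s ^ r = 1) (huv : m * u = r * v + j) : s ^ j ∈ M := by
  have h1 := mul_pow_mem ha m h
  have h2 : s ^ (m * u) ∈ M := by rw [pow_mul]; exact pow_mem h1 u
  rw [huv, pow_add, pow_mul, hr, one_pow, one_mul] at h2
  exact h2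

section Concrete

open Equiv

theorem bound_wrap {Γ : Type*} [Group Γ] {c : ℕ} (j N : ℕ) (h : Finite Γ ∧ Nat.card Γ * 2 ≤ j * (N + 2).factorial)
    (hc : j * (N + 2).factorial ≤ c * 2) : Finite Γ ∧ Nat.card Γ ≤ c := ⟨h.1, by have := h.2; omega⟩

/-- relators of `A₃` -/
def relA3 : List (FreeGroup (Fin 2)) := [A ^ 3, B]

/-- relators of `S₃` -/
def relS3 : List (FreeGroup (Fin 2)) := [A ^ 3, B ^ 2, B⁻¹ * A⁻¹ * B * A⁻¹]

/-- relators of `A₄` -/
def relA4 : List (FreeGroup (Fin 2)) := [A ^ 3, B ^ 2, (B * A) ^ 3, (A * (B⁻¹ * A⁻¹ * B)) ^ 2]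

/-- relators of `S₄` -/
def relS4 : List (FreeGroup (Fin 2)) := [A ^ 3, B ^ 2, (A * (B⁻¹ * A * B)) ^ 2]

/-- relators of `A₅` -/
def relA5 : List (FreeGroup (Fin 2)) := [A ^ 3, B ^ 3, (B * A) ^ 5, (A * (B⁻¹ * A * B)) ^ 2]

/-- relators of `S₅` -/
def relS5 : List (FreeGroup (Fin 2)) :=
  [A ^ 3, B ^ 6, (B ^ 3)⁻¹ * A⁻¹ * B ^ 3 * A⁻¹, (B * A) ^ 4, (A * (B⁻¹ * A⁻¹ * B)) ^ 2]

/-- relators of `A₆` -/
def relA6 : List (FreeGroup (Fin 2)) :=
  [A ^ 3, B ^ 4, (B * A) ^ 5, (A * (B⁻¹ * A⁻¹ * B)) ^ 2, (A * ((B ^ 2)⁻¹ * A * B ^ 2)) ^ 2]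

/-- relators of `S₆` -/
def relS6 : List (FreeGroup (Fin 2)) :=
  [A ^ 3, B ^ 4, (B * A) ^ 6, (A * (B⁻¹ * A * B)) ^ 2, (A * ((B ^ 2)⁻¹ * A * B ^ 2)) ^ 2]

variable {Γ : Type*} [Group Γ] (y : Fin 2 → Γ) (hy : Subgroup.closure (Set.range y) = ⊤)

include hy

theorem relA3_bound (h : ∀ r ∈ relA3, FreeGroup.lift y r = 1) : Finite Γ ∧ Nat.card Γ ≤ 3 := by
  simp only [relA3, List.mem_cons, List.not_mem_nil, or_false, forall_eq_or_imp, forall_eq, map_pow,
    FreeGroup.lift_apply_of, A, B] at h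
  obtain ⟨h1, h2⟩ := h
  rw [range_fin_two, h2] at hy
  refine bound_wrap 1 1 (card_le_of_carmichael (y 0) 1 1 (Or.inl rfl) 1 (by norm_num) h1 (by simp [xs])
      (fun k _ _ => by omega) 1 one_pos (fun M _ _ => by simp [one_mem]) hy) (by decide)

theorem relS2_bound (h : ∀ r ∈ [A ^ 2, B], FreeGroup.lift y r = 1) : Finite Γ ∧ Nat.card Γ ≤ 2 := by
  simp only [List.mem_cons, List.not_mem_nil, or_false, forall_eq_or_imp, forall_eq, map_pow,
    FreeGroup.lift_apply_of, A, B] at h
  rw [range_fin_two, h.2] at hy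
  have h1 : Subgroup.zpowers (y 0) = ⊤ := by
    rw [eq_top_iff, ← hy, Subgroup.closure_le]
    rintro g (hg | hg)
    · rw [hg]; exact Subgroup.mem_zpowers _
    · rw [Set.mem_singleton_iff] at hg
      rw [hg]; exact one_mem _
  have hfo : IsOfFinOrder (y 0) := isOfFinOrder_iff_pow_eq_one.2 ⟨2, two_pos, h.1⟩
  have hc : Nat.card Γ = orderOf (y 0) := by
    rw [← Nat.card_zpowers, h1, Subgroup.card_top]
  have hle := orderOf_le_of_pow_eq_one two_pos h.1
  have hpos := hfo.orderOf_pos
  rw [← hc] at hle hpos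
  exact ⟨(Nat.card_pos_iff.1 hpos).2, hle⟩

theorem relS3_bound (h : ∀ r ∈ relS3, FreeGroup.lift y r = 1) : Finite Γ ∧ Nat.card Γ ≤ 6 := by
  simp only [relS3, List.mem_cons, List.not_mem_nil, or_false, forall_eq_or_imp, forall_eq, map_mul, map_pow, map_inv,
    FreeGroup.lift_apply_of, A, B] at h
  obtain ⟨h1, h2, h3⟩ := h
  rw [range_fin_two] at hy
  refine bound_wrap 2 1 (card_le_of_carmichael (y 0) (y 1) (-1) (Or.inr rfl) 1 (by norm_num) h1 ?_ ?_ 2 two_pos ?_ hy)
    (by decide)
  · simpa [xs, mul_inv_eq_one] using h3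
  · intro k hk hk'
    omega
  · intro M hM ha
    rw [h2]; exact one_mem _

theorem relA4_bound (h : ∀ r ∈ relA4, FreeGroup.lift y r = 1) : Finite Γ ∧ Nat.card Γ ≤ 12 := by
  simp only [relA4, List.mem_cons, List.not_mem_nil, or_false, forall_eq_or_imp, forall_eq, map_mul, map_pow, map_inv,
    FreeGroup.lift_apply_of, A, B] at h
  obtain ⟨h1, h2, h3, h4⟩ := h
  rw [range_fin_two] at hy
  refine bound_wrap 1 2 (card_le_of_carmichael (y 0) (y 1) (-1) (Or.inr rfl) 2 (by norm_num) h1 ?_ ?_ 1 one_pos ?_ hy)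
    (by decide)
  · simp [xs, h2]
  · intro k hk hk'
    have : k = 1 := by omega
    subst this
    simpa [xs] using h4
  · intro M hM ha
    exact pow_mem_of hM ha 3 2 1 1 1 h3 h2 rfl

theorem relS4_bound (h : ∀ r ∈ relS4, FreeGroup.lift y r = 1) : Finite Γ ∧ Nat.card Γ ≤ 24 := by
  simp only [relS4, List.mem_cons, List.not_mem_nil, or_false, forall_eq_or_imp, forall_eq, map_mul, map_pow, map_inv,
    FreeGroup.lift_apply_of, A, B] at h
  obtain ⟨h1, h2, h4⟩ := h
  rw [range_fin_two] at hy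
  refine bound_wrap 2 2 (card_le_of_carmichael (y 0) (y 1) 1 (Or.inl rfl) 2 (by norm_num) h1 ?_ ?_ 2 two_pos ?_ hy)
    (by decide)
  · simp [xs, h2]
  · intro k hk hk'
    have : k = 1 := by omega
    subst this
    simpa [xs] using h4
  · intro M hM ha
    rw [h2]; exact one_mem _

theorem relA5_bound (h : ∀ r ∈ relA5, FreeGroup.lift y r = 1) : Finite Γ ∧ Nat.card Γ ≤ 60 := by
  simp only [relA5, List.mem_cons, List.not_mem_nil, or_false, forall_eq_or_imp, forall_eq, map_mul, map_pow, map_inv,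
    FreeGroup.lift_apply_of, A, B] at h
  obtain ⟨h1, h2, h3, h4⟩ := h
  rw [range_fin_two] at hy
  refine bound_wrap 1 3 (card_le_of_carmichael (y 0) (y 1) 1 (Or.inl rfl) 3 (by norm_num) h1 ?_ ?_ 1 one_pos ?_ hy)
    (by decide)
  · simp [xs, h2]
  · intro k hk hk'
    have : k = 1 := by omega
    subst this
    simpa [xs] using h4
  · intro M hM ha
    exact pow_mem_of hM ha 5 3 1 2 3 h3 h2 rfl

theorem relS5_bound (h : ∀ r ∈ relS5, FreeGroup.lift y r = 1) : Finite Γ ∧ Nat.card Γ ≤ 120 := by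
  simp only [relS5, List.mem_cons, List.not_mem_nil, or_false, forall_eq_or_imp, forall_eq, map_mul, map_pow, map_inv,
    FreeGroup.lift_apply_of, A, B] at h
  obtain ⟨h1, h2, h5, h3, h4⟩ := h
  rw [range_fin_two] at hy
  refine bound_wrap 2 3 (card_le_of_carmichael (y 0) (y 1) (-1) (Or.inr rfl) 3 (by norm_num) h1 ?_ ?_ 2 two_pos ?_ hy)
    (by decide)
  · rw [xs]
    norm_num
    rw [← mul_inv_eq_one]
    exact h5
  · intro k hk hk'
    have : k = 1 := by omega
    subst this
    simpa [xs] using h4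
  · intro M hM ha
    exact pow_mem_of hM ha 4 6 2 2 1 h3 h2 rfl

theorem relA6_bound (h : ∀ r ∈ relA6, FreeGroup.lift y r = 1) : Finite Γ ∧ Nat.card Γ ≤ 360 := by
  simp only [relA6, List.mem_cons, List.not_mem_nil, or_false, forall_eq_or_imp, forall_eq, map_mul, map_pow, map_inv,
    FreeGroup.lift_apply_of, A, B] at h
  obtain ⟨h1, h2, h3, h4, h5⟩ := h
  rw [range_fin_two] at hy
  refine bound_wrap 1 4 (card_le_of_carmichael (y 0) (y 1) (-1) (Or.inr rfl) 4 (by norm_num) h1 ?_ ?_ 1 one_pos ?_ hy)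
    (by decide)
  · rw [xs, h2]; norm_num
  · intro k hk hk'
    obtain rfl | rfl : k = 1 ∨ k = 2 := by omega
    · simpa [xs] using h4
    · rw [xs]; norm_num; exact h5
  · intro M hM ha
    exact pow_mem_of hM ha 5 4 1 1 1 h3 h2 rfl

theorem relS6_bound (h : ∀ r ∈ relS6, FreeGroup.lift y r = 1) : Finite Γ ∧ Nat.card Γ ≤ 720 := by
  simp only [relS6, List.mem_cons, List.not_mem_nil, or_false, forall_eq_or_imp, forall_eq, map_mul, map_pow, map_inv,
    FreeGroup.lift_apply_of, A, B] at h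
  obtain ⟨h1, h2, h3, h4, h5⟩ := h
  rw [range_fin_two] at hy
  refine bound_wrap 2 4 (card_le_of_carmichael (y 0) (y 1) 1 (Or.inl rfl) 4 (by norm_num) h1 ?_ ?_ 2 two_pos ?_ hy)
    (by decide)
  · rw [xs, h2]; norm_num
  · intro k hk hk'
    obtain rfl | rfl : k = 1 ∨ k = 2 := by omega
    · simpa [xs] using h4
    · rw [xs]; norm_num; exact h5
  · intro M hM ha
    exact pow_mem_of hM ha 6 4 2 1 1 h3 h2 rfl

end Concrete

end Cfsg.Agent.H173.Pres
end

-- part: H173/PresSix
section
/-!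
# Tight presentations of `S_n`, `A_n`, `n ≤ 6` (helper173)

`presOn_s3 … presOn_s6`, `presOn_a3 … presOn_a6` : `PresOn ![a, s] m` with `a` the 3-cycle `(0 1 2)` and `m ≤ 5`.
`hasPres_two_perm`, `hasPres_two_alt` : `HasPres _ 2 5` for `n ≤ 6`.
-/

set_option autoImplicit false

namespace Cfsg.Agent.H173.Pres

set_option maxRecDepth 20000
set_option linter.unusedSimpArgs false

open Cfsg.Agent.H111 Equiv Cfsg.Agent.CharactersDeep.SchurAltPerm

theorem card_perm_fin (n : ℕ) : Nat.card (Perm (Fin n)) = n.factorial := by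
  rw [Nat.card_eq_fintype_card, Fintype.card_perm, Fintype.card_fin]

theorem card_alt_fin (n : ℕ) (hn : 2 ≤ n) : Nat.card (alternatingGroup (Fin n)) * 2 = n.factorial := by
  have : Nontrivial (Fin n) := Fin.nontrivial_iff_two_le.2 hn
  rw [nat_card_alternatingGroup, Nat.card_eq_fintype_card, Fintype.card_fin]
  exact Nat.div_mul_cancel (Nat.dvd_factorial (by norm_num) hn)

section S

/-- the 3-cycle -/
def a3 : Perm (Fin 3) := swap 0 2 * swap 0 1
/-- the second generator -/
def s3 : Perm (Fin 3) := 1 * swap 0 1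
/-- the 3-cycle -/
def a4 : Perm (Fin 4) := swap 0 2 * swap 0 1
/-- the second generator -/
def s4 : Perm (Fin 4) := swap 2 3 * 1
/-- the 3-cycle -/
def a5 : Perm (Fin 5) := swap 0 2 * swap 0 1
/-- the second generator -/
def s5 : Perm (Fin 5) := (swap 2 3 * swap 3 4) * swap 0 1
/-- the 3-cycle -/
def a6 : Perm (Fin 6) := swap 0 2 * swap 0 1
/-- the second generator -/
def s6 : Perm (Fin 6) := (swap 2 3 * swap 3 4 * swap 4 5) * 1

theorem presOn_s3 : PresOn ![a3, s3] 3 := by
  refine PresOn.of_card ![a3, s3] ?_ relS3 ?_ ?_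
  · rw [range_pair]
    exact closure_perm a3 1 (swap 0 1) 0 1 2 rfl (by decide) (by decide) (by decide) rfl rfl (by decide) (Or.inr rfl)
      (by decide)
  · simp only [relS3, List.mem_cons, List.not_mem_nil, or_false, forall_eq_or_imp, forall_eq, map_mul, map_pow, map_inv,
      FreeGroup.lift_apply_of, A, B]
    decide
  · intro y hy h
    rw [card_perm_fin]
    exact relS3_bound y hy h

theorem presOn_s4 : PresOn ![a4, s4] 3 := by
  refine PresOn.of_card ![a4, s4] ?_ relS4 ?_ ?_
  · rw [range_pair]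
    exact closure_perm a4 (swap 2 3) 1 0 1 2 rfl (by decide) (by decide) (by decide) (by decide) (by decide) (by decide)
      (Or.inl rfl) (by decide)
  · simp only [relS4, List.mem_cons, List.not_mem_nil, or_false, forall_eq_or_imp, forall_eq, map_mul, map_pow, map_inv,
      FreeGroup.lift_apply_of, A, B]
    decide
  · intro y hy h
    rw [card_perm_fin]
    exact relS4_bound y hy h

theorem presOn_s5 : PresOn ![a5, s5] 5 := by
  refine PresOn.of_card ![a5, s5] ?_ relS5 ?_ ?_
  · rw [range_pair]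
    exact closure_perm a5 (swap 2 3 * swap 3 4) (swap 0 1) 0 1 2 rfl (by decide) (by decide) (by decide) (by decide)
      (by decide) (by decide) (Or.inr rfl) (by decide)
  · simp only [relS5, List.mem_cons, List.not_mem_nil, or_false, forall_eq_or_imp, forall_eq, map_mul, map_pow, map_inv,
      FreeGroup.lift_apply_of, A, B]
    decide
  · intro y hy h
    rw [card_perm_fin]
    exact relS5_bound y hy h

theorem presOn_s6 : PresOn ![a6, s6] 5 := by
  refine PresOn.of_card ![a6, s6] ?_ relS6 ?_ ?_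
  · rw [range_pair]
    exact closure_perm a6 (swap 2 3 * swap 3 4 * swap 4 5) 1 0 1 2 rfl (by decide) (by decide) (by decide) (by decide)
      (by decide) (by decide) (Or.inl rfl) (by decide)
  · simp only [relS6, List.mem_cons, List.not_mem_nil, or_false, forall_eq_or_imp, forall_eq, map_mul, map_pow, map_inv,
      FreeGroup.lift_apply_of, A, B]
    decide
  · intro y hy h
    rw [card_perm_fin]
    exact relS6_bound y hy h

end S

section Alt

/-- the 3-cycle -/
def za3 : alternatingGroup (Fin 3) := ⟨swap 0 2 * swap 0 1, Perm.mem_alternatingGroup.2 (by decide)⟩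
/-- the 3-cycle -/
def za4 : alternatingGroup (Fin 4) := ⟨swap 0 2 * swap 0 1, Perm.mem_alternatingGroup.2 (by decide)⟩
/-- the second generator -/
def zs4 : alternatingGroup (Fin 4) := ⟨swap 2 3 * swap 0 1, Perm.mem_alternatingGroup.2 (by decide)⟩
/-- the 3-cycle -/
def za5 : alternatingGroup (Fin 5) := ⟨swap 0 2 * swap 0 1, Perm.mem_alternatingGroup.2 (by decide)⟩
/-- the second generator -/
def zs5 : alternatingGroup (Fin 5) := ⟨(swap 2 3 * swap 3 4) * 1, Perm.mem_alternatingGroup.2 (by decide)⟩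
/-- the 3-cycle -/
def za6 : alternatingGroup (Fin 6) := ⟨swap 0 2 * swap 0 1, Perm.mem_alternatingGroup.2 (by decide)⟩
/-- the second generator -/
def zs6 : alternatingGroup (Fin 6) := ⟨(swap 2 3 * swap 3 4 * swap 4 5) * swap 0 1, Perm.mem_alternatingGroup.2 (by decide)⟩

theorem presOn_a3 : PresOn ![za3, 1] 2 := by
  refine PresOn.of_card ![za3, 1] ?_ relA3 ?_ ?_
  · rw [range_pair]
    exact closure_alt za3 1 1 1 0 1 2 (by simp) rfl (by decide) (by decide) (by decide) rfl rfl (by decide) (Or.inl rfl)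
  · simp only [relA3, List.mem_cons, List.not_mem_nil, or_false, forall_eq_or_imp, forall_eq, map_mul, map_pow, map_inv,
      FreeGroup.lift_apply_of, A, B]
    decide
  · intro y hy h
    have h2 : Nat.card (alternatingGroup (Fin 3)) = 3 := by
      have := card_alt_fin 3 (by norm_num)
      have h6 : Nat.factorial 3 = 6 := rfl
      omega
    rw [h2]
    exact relA3_bound y hy h

theorem presOn_a4 : PresOn ![za4, zs4] 4 := by
  refine PresOn.of_card ![za4, zs4] ?_ relA4 ?_ ?_
  · rw [range_pair]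
    exact closure_alt za4 zs4 (swap 2 3) (swap 0 1) 0 1 2 rfl rfl (by decide) (by decide) (by decide) (by decide)
      (by decide) (by decide) (Or.inr rfl)
  · simp only [relA4, List.mem_cons, List.not_mem_nil, or_false, forall_eq_or_imp, forall_eq, map_mul, map_pow, map_inv,
      FreeGroup.lift_apply_of, A, B]
    decide
  · intro y hy h
    have h2 : Nat.card (alternatingGroup (Fin 4)) = 12 := by
      have := card_alt_fin 4 (by norm_num)
      have h6 : Nat.factorial 4 = 24 := rfl
      omega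
    rw [h2]
    exact relA4_bound y hy h

theorem presOn_a5 : PresOn ![za5, zs5] 4 := by
  refine PresOn.of_card ![za5, zs5] ?_ relA5 ?_ ?_
  · rw [range_pair]
    exact closure_alt za5 zs5 (swap 2 3 * swap 3 4) 1 0 1 2 rfl rfl (by decide) (by decide) (by decide) (by decide)
      (by decide) (by decide) (Or.inl rfl)
  · simp only [relA5, List.mem_cons, List.not_mem_nil, or_false, forall_eq_or_imp, forall_eq, map_mul, map_pow, map_inv,
      FreeGroup.lift_apply_of, A, B]
    decide
  · intro y hy h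
    have h2 : Nat.card (alternatingGroup (Fin 5)) = 60 := by
      have := card_alt_fin 5 (by norm_num)
      have h6 : Nat.factorial 5 = 120 := rfl
      omega
    rw [h2]
    exact relA5_bound y hy h

theorem presOn_a6 : PresOn ![za6, zs6] 5 := by
  refine PresOn.of_card ![za6, zs6] ?_ relA6 ?_ ?_
  · rw [range_pair]
    exact closure_alt za6 zs6 (swap 2 3 * swap 3 4 * swap 4 5) (swap 0 1) 0 1 2 rfl rfl (by decide) (by decide)
      (by decide) (by decide) (by decide) (by decide) (Or.inr rfl)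
  · simp only [relA6, List.mem_cons, List.not_mem_nil, or_false, forall_eq_or_imp, forall_eq, map_mul, map_pow, map_inv,
      FreeGroup.lift_apply_of, A, B]
    decide
  · intro y hy h
    have h2 : Nat.card (alternatingGroup (Fin 6)) = 360 := by
      have := card_alt_fin 6 (by norm_num)
      have h6 : Nat.factorial 6 = 720 := rfl
      omega
    rw [h2]
    exact relA6_bound y hy h

end Alt

/-- the trivial group -/
theorem hasPres_two_of_subsingleton {G : Type*} [Group G] [Subsingleton G] : HasPres G 2 5 := by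
  have h : PresOn ![(1 : G), 1] 2 := by
    have hlen : [A, B].length = 2 := rfl
    rw [← hlen]
    refine PresOn.of_list _ ?_ [A, B] (fun r _ => Subsingleton.elim _ _) ?_
    · rw [eq_top_iff]
      intro x _
      rw [Subsingleton.elim x 1]
      exact one_mem _
    · intro φ hφ x _
      have e : φ = 1 := by
        ext j
        fin_cases j
        · exact hφ _ (by simp)
        · exact hφ _ (by simp)
      rw [e]; rfl
  exact h.hasPres.mono (by norm_num)

theorem presOn_s2 : PresOn ![(swap 0 1 : Perm (Fin 2)), 1] 2 := by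
  refine PresOn.of_card _ ?_ [A ^ 2, B] ?_ ?_
  · rw [range_pair, eq_top_iff]
    rintro x -
    have hx : ∀ x : Perm (Fin 2), x = 1 ∨ x = swap 0 1 := by decide
    rcases hx x with rfl | rfl
    · exact one_mem _
    · exact Subgroup.subset_closure (by simp)
  · simp only [List.mem_cons, List.not_mem_nil, or_false, forall_eq_or_imp, forall_eq, map_pow,
      FreeGroup.lift_apply_of, A, B]
    decide
  · intro y hy h
    rw [card_perm_fin]
    exact relS2_bound y hy h

/-- **(b), (c)**: `S_n`, `n ≤ 6`, has a presentation with two generators and five relators -/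
theorem hasPres_two_perm (n : ℕ) (hn : n ≤ 6) : HasPres (Perm (Fin n)) 2 5 := by
  obtain rfl | rfl | rfl | rfl | rfl | rfl | rfl : n = 0 ∨ n = 1 ∨ n = 2 ∨ n = 3 ∨ n = 4 ∨ n = 5 ∨ n = 6 := by omega
  · exact hasPres_two_of_subsingleton
  · exact hasPres_two_of_subsingleton
  · exact presOn_s2.hasPres.mono (by norm_num)
  · exact presOn_s3.hasPres.mono (by norm_num)
  · exact presOn_s4.hasPres.mono (by norm_num)
  · exact presOn_s5.hasPres
  · exact presOn_s6.hasPres

/-- **(b), (c)**: `A_n`, `n ≤ 6`, has a presentation with two generators and five relators -/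
theorem hasPres_two_alt (n : ℕ) (hn : n ≤ 6) : HasPres (alternatingGroup (Fin n)) 2 5 := by
  obtain rfl | rfl | rfl | rfl | rfl | rfl | rfl : n = 0 ∨ n = 1 ∨ n = 2 ∨ n = 3 ∨ n = 4 ∨ n = 5 ∨ n = 6 := by omega
  · exact hasPres_two_of_subsingleton
  · exact hasPres_two_of_subsingleton
  · have : Subsingleton (alternatingGroup (Fin 2)) := ⟨by decide⟩
    exact hasPres_two_of_subsingleton
  · exact presOn_a3.hasPres.mono (by norm_num)
  · exact presOn_a4.hasPres.mono (by norm_num)
  · exact presOn_a5.hasPres.mono (by norm_num)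
  · exact presOn_a6.hasPres

theorem hasPres_three_perm (n : ℕ) (hn : n ≤ 6) : HasPres (Perm (Fin n)) 3 7 :=
  (hasPres_two_perm n hn).succ.mono (by norm_num)

theorem hasPres_three_alt (n : ℕ) (hn : n ≤ 6) : HasPres (alternatingGroup (Fin n)) 3 7 :=
  (hasPres_two_alt n hn).succ.mono (by norm_num)

end Cfsg.Agent.H173.Pres
end
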