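import Mathlib
import Cfsg.Agent.H171.Palin
set_option linter.all false

-- part: H170/Dat
section
/-!
# Combinatorial data of conjugacy classes of orthogonal groups in characteristic two

`Dat F` : for an isometry `g` of a nondegenerate quadratic space over the finite field `F` of characteristic two:
* `f j` : (product of the irreducible polynomials `≠ X - 1` occurring with exponent exactly `j`), a palindromic polynomial;
* `a j` : number of hyperbolic blocks `W(j)` (dimension `2 j`) of the unipotent part;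
* `b k` : number of cyclic blocks `V(2k)` (dimension `2 k`) of the unipotent part;
* `s j`, `t k` : signs (`true` = minus) of the `W(j)`, `j` odd, and of the `V(2k)`.
`Ok n D` : `D` is a normal form of total dimension `2 n`.
-/

set_option autoImplicit false

namespace Cfsg.Agent.H170

open Polynomial

/-- the data -/
structure Dat (F : Type*) [Field F] where
  /-- the part without eigenvalue one -/
  f : ℕ → F[X]
  /-- multiplicity of `W(j)` -/
  a : ℕ → ℕ
  /-- multiplicity of `V(2k)` -/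
  b : ℕ → ℕ
  /-- sign of `W(j)` -/
  s : ℕ → Bool
  /-- sign of `V(2k)` -/
  t : ℕ → Bool

/-- normal forms of dimension `2 n` -/
structure Dat.Ok {F : Type*} [Field F] (n : ℕ) (D : Dat F) : Prop where
  monic : ∀ j, (D.f j).Monic
  pal : ∀ j, (D.f j).reverse = D.f j
  one : ∀ j, (D.f j).eval 1 ≠ 0
  even : ∀ j, Even (D.f j).natDegree
  zero : D.f 0 = 1 ∧ D.a 0 = 0 ∧ D.b 0 = 0
  big : ∀ j, n < j → D.f j = 1 ∧ D.a j = 0 ∧ D.b j = 0
  b_le : ∀ k, D.b k ≤ 2
  s_imp : ∀ j, D.s j = true → Odd j ∧ 0 < D.a j ∧ D.b (j / 2) = 0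
  t_imp : ∀ k, D.t k = true → 0 < D.b k ∧ D.b (k - 1) = 0 ∧ D.a (2 * k - 1) = 0
  size : ∑ j ∈ Finset.range (n + 1), (j * ((D.f j).natDegree / 2 + D.a j) + j * D.b j) = n

end Cfsg.Agent.H170
end

-- part: H173/NumDat
section
/-!
# Counting the data of conjugacy classes of orthogonal groups in characteristic two: transfer (helper173)
-/

set_option autoImplicit false

namespace Cfsg.Agent.H173.Num

open Polynomial Cfsg.Agent.H170 Cfsg.Agent.H171

variable {F : Type*} [Field F]

/-- the pairs `(f, a)` of total degree `2 d` -/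
def Pairs (F : Type*) [Field F] (d : ℕ) : Set (F[X] × ℕ) :=
  {x | Pal x.1 ∧ x.1.eval 1 ≠ 0 ∧ x.1.natDegree + 2 * x.2 = 2 * d}

theorem pairs_finite [Finite F] (d : ℕ) : (Pairs F d).Finite := (card_pair_le F d).1

theorem pairs_ncard [Finite F] (d : ℕ) : (Pairs F d).ncard ≤ Nat.card F ^ d := (card_pair_le F d).2

/-- `N m` is finite of size at most `C q ^ m` -/
def Bd {α : Type*} (q : ℕ) (N : ℕ → Set α) (C : ℚ) : Prop :=
  ∀ m, (N m).Finite ∧ ((N m).ncard : ℚ) ≤ C * (q : ℚ) ^ m

/-- one step of the count -/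
def Step {α : Type*} (F : Type*) [Field F] (N : ℕ → Set α) (Φ : α → F[X] × ℕ → α) (L c n : ℕ) : Set α :=
  {D | ∃ d m, L * d + c + m = n ∧ ∃ D' ∈ N m, ∃ p ∈ Pairs F d, D = Φ D' p}

theorem geom_le (r : ℚ) (h0 : 0 ≤ r) (h1 : r < 1) (n : ℕ) : ∑ d ∈ Finset.range n, r ^ d ≤ 1 / (1 - r) := by
  rw [geom_sum_eq h1.ne, ← neg_div_neg_eq, neg_sub, neg_sub]
  apply div_le_div_of_nonneg_right _ (by linarith)
  have : 0 ≤ r ^ n := pow_nonneg h0 n
  linarith

theorem step_subset {α : Type*} (N : ℕ → Set α) (Φ : α → F[X] × ℕ → α) (L c n : ℕ) (hL : 0 < L) :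
    Step F N Φ L c n ⊆ ⋃ d ∈ Finset.range (n + 1), (fun x : α × (F[X] × ℕ) => Φ x.1 x.2) ''
      ((if L * d + c ≤ n then N (n - (L * d + c)) else ∅) ×ˢ Pairs F d) := by
  rintro D ⟨d, m, hdm, D', hD', p, hp, rfl⟩
  have hd : d < n + 1 := by
    have : d ≤ L * d := Nat.le_mul_of_pos_left d hL
    omega
  simp only [Set.mem_iUnion]
  refine ⟨d, Finset.mem_range.2 hd, (D', p), ⟨?_, hp⟩, rfl⟩
  rw [if_pos (by omega), show n - (L * d + c) = m by omega]
  exact hD'

theorem step_finite {α : Type*} [Finite F] {N : ℕ → Set α} (hN : ∀ m, (N m).Finite) (Φ : α → F[X] × ℕ → α)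
    (L c n : ℕ) (hL : 0 < L) : (Step F N Φ L c n).Finite := by
  refine Set.Finite.subset ?_ (step_subset N Φ L c n hL)
  refine Set.Finite.biUnion (Finset.finite_toSet _) fun d _ => ?_
  refine Set.Finite.image _ (Set.Finite.prod ?_ (pairs_finite d))
  split_ifs
  · exact hN _
  · exact Set.finite_empty

theorem step_ncard {α : Type*} [Finite F] {N : ℕ → Set α} (hN : ∀ m, (N m).Finite) (Φ : α → F[X] × ℕ → α)
    (L c n : ℕ) (hL : 0 < L) : (Step F N Φ L c n).ncard ≤
      ∑ d ∈ Finset.range (n + 1), if L * d + c ≤ n then (N (n - (L * d + c))).ncard * Nat.card F ^ d else 0 := by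
  classical
  have hfin : ∀ d ∈ Finset.range (n + 1), ((fun x : α × (F[X] × ℕ) => Φ x.1 x.2) ''
      ((if L * d + c ≤ n then N (n - (L * d + c)) else ∅) ×ˢ Pairs F d)).Finite := by
    intro d _
    refine Set.Finite.image _ (Set.Finite.prod ?_ (pairs_finite d))
    split_ifs
    · exact hN _
    · exact Set.finite_empty
  refine (Set.ncard_le_ncard (step_subset N Φ L c n hL)
    (Set.Finite.biUnion (Finset.finite_toSet _) hfin)).trans ?_
  refine (Finset.set_ncard_biUnion_le _ _).trans (Finset.sum_le_sum fun d _ => ?_)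
  split_ifs with h
  · refine (Set.ncard_image_le (Set.Finite.prod (hN _) (pairs_finite d))).trans ?_
    rw [Set.ncard_prod]
    exact Nat.mul_le_mul_left _ (pairs_ncard d)
  · simp

/-- **the step** for `L ≥ 2` -/
theorem step_bd {α : Type*} [Finite F] {N : ℕ → Set α} {C : ℚ} (hC : 0 ≤ C) (hN : Bd (Nat.card F) N C)
    (Φ : α → F[X] × ℕ → α) (L c n : ℕ) (hL : 2 ≤ L) :
    (Step F N Φ L c n).Finite ∧ ((Step F N Φ L c n).ncard : ℚ) ≤
      C * (1 / (Nat.card F : ℚ)) ^ c * (1 / (1 - (1 / (Nat.card F : ℚ)) ^ (L - 1))) * (Nat.card F : ℚ) ^ n := by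
  have hq1 : 1 < Nat.card F := Finite.one_lt_card
  set q := Nat.card F with hq
  set u : ℚ := 1 / q with hu
  have hq0 : (0 : ℚ) < q := by exact_mod_cast (by omega : 0 < q)
  have huq : u * q = 1 := by rw [hu]; field_simp
  have hu0 : 0 < u := by rw [hu]; positivity
  have hu1 : u < 1 := by
    rw [hu, div_lt_one hq0]; exact_mod_cast hq1
  refine ⟨step_finite (fun m => (hN m).1) Φ L c n (by omega), ?_⟩
  have h1 := step_ncard (F := F) (fun m => (hN m).1) Φ L c n (by omega)
  have h2 : ((Step F N Φ L c n).ncard : ℚ) ≤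
      ∑ d ∈ Finset.range (n + 1), C * u ^ c * (u ^ (L - 1)) ^ d * (q : ℚ) ^ n := by
    refine (Nat.cast_le (α := ℚ).2 h1).trans ?_
    rw [Nat.cast_sum]
    refine Finset.sum_le_sum fun d _ => ?_
    split_ifs with h
    · push_cast
      have h3 := (hN (n - (L * d + c))).2
      have h4 : (q : ℚ) ^ n = (q : ℚ) ^ (n - (L * d + c)) * (q : ℚ) ^ (L * d) * (q : ℚ) ^ c := by
        rw [← pow_add, ← pow_add]; congr 1; omega
      have h5 : (q : ℚ) ^ (L * d) = (q : ℚ) ^ ((L - 1) * d) * (q : ℚ) ^ d := by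
        rw [← pow_add]; congr 1
        obtain ⟨l, rfl⟩ : ∃ l, L = l + 1 := ⟨L - 1, by omega⟩
        rw [Nat.add_sub_cancel]; ring
      have h6 : C * u ^ c * (u ^ (L - 1)) ^ d * (q : ℚ) ^ n = C * (q : ℚ) ^ (n - (L * d + c)) * (q : ℚ) ^ d := by
        rw [h4, h5, ← pow_mul]
        have e1 : u ^ c * (q : ℚ) ^ c = 1 := by rw [← mul_pow, huq, one_pow]
        have e2 : u ^ ((L - 1) * d) * (q : ℚ) ^ ((L - 1) * d) = 1 := by rw [← mul_pow, huq, one_pow]
        calc C * u ^ c * u ^ ((L - 1) * d) * ((q : ℚ) ^ (n - (L * d + c)) *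
              ((q : ℚ) ^ ((L - 1) * d) * (q : ℚ) ^ d) * (q : ℚ) ^ c)
            = C * (q : ℚ) ^ (n - (L * d + c)) * (q : ℚ) ^ d * (u ^ c * (q : ℚ) ^ c) *
              (u ^ ((L - 1) * d) * (q : ℚ) ^ ((L - 1) * d)) := by ring
          _ = _ := by rw [e1, e2]; ring
      rw [h6]
      exact mul_le_mul_of_nonneg_right h3 (by positivity)
    · simp only [Nat.cast_zero]; positivity
  refine h2.trans ?_
  have h7 : ∑ d ∈ Finset.range (n + 1), C * u ^ c * (u ^ (L - 1)) ^ d * (q : ℚ) ^ n =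
      C * u ^ c * (∑ d ∈ Finset.range (n + 1), (u ^ (L - 1)) ^ d) * (q : ℚ) ^ n := by
    rw [Finset.mul_sum, Finset.sum_mul]
  rw [h7]
  have h8 := geom_le (u ^ (L - 1)) (by positivity) (pow_lt_one₀ hu0.le hu1 (by omega)) (n + 1)
  apply mul_le_mul_of_nonneg_right _ (by positivity)
  exact mul_le_mul_of_nonneg_left h8 (by positivity)

/-- **the first step**: `L = 1`, starting with a single element of size zero -/
theorem step_one {α : Type*} [Finite F] (D0 : α)
    (Φ : α → F[X] × ℕ → α) (c n : ℕ) :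
    (Step F (fun m => if m = 0 then {D0} else ∅) Φ 1 c n).Finite ∧
      ((Step F (fun m => if m = 0 then {D0} else ∅) Φ 1 c n).ncard : ℚ) ≤
        (1 / (Nat.card F : ℚ)) ^ c * (Nat.card F : ℚ) ^ n := by
  have hfin : ∀ m, ((fun m => if m = 0 then {D0} else ∅ : ℕ → Set α) m).Finite := by
    intro m
    dsimp only
    split_ifs
    · exact Set.finite_singleton _
    · exact Set.finite_empty
  refine ⟨step_finite hfin Φ 1 c n one_pos, ?_⟩
  have hq1 : 1 < Nat.card F := Finite.one_lt_card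
  set q := Nat.card F with hq
  have hq0 : (0 : ℚ) < q := by exact_mod_cast (by omega : 0 < q)
  have h1 := step_ncard (F := F) hfin Φ 1 c n one_pos
  rcases Nat.lt_or_ge n c with hc | hc
  · have h2 : (Step F (fun m => if m = 0 then {D0} else ∅) Φ 1 c n).ncard = 0 := by
      rw [← Nat.le_zero]
      refine h1.trans (le_of_eq ?_)
      refine Finset.sum_eq_zero fun d _ => ?_
      rw [if_neg (by omega)]
    rw [h2, Nat.cast_zero]
    positivity
  · have h2 : (Step F (fun m => if m = 0 then {D0} else ∅) Φ 1 c n).ncard ≤ q ^ (n - c) := by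
      refine h1.trans ?_
      rw [Finset.sum_eq_single (n - c)]
      · rw [if_pos (by omega), if_pos (by omega), Set.ncard_singleton, one_mul]
      · intro d _ hd
        by_cases h : 1 * d + c ≤ n
        · have : n - (1 * d + c) ≠ 0 := by omega
          rw [if_pos h, if_neg this]; simp
        · rw [if_neg h]
      · intro h
        exfalso
        apply h
        rw [Finset.mem_range]; omega
    have h3 : (q : ℚ) ^ n = (q : ℚ) ^ (n - c) * (q : ℚ) ^ c := by
      rw [← pow_add]; congr 1; omega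
    have h4 : (1 / (q : ℚ)) ^ c * (q : ℚ) ^ n = (q : ℚ) ^ (n - c) := by
      rw [h3, mul_comm ((q : ℚ) ^ (n - c)), ← mul_assoc, ← mul_pow, one_div, inv_mul_cancel₀ hq0.ne', one_pow, one_mul]
    rw [h4]
    exact_mod_cast h2

section Levels

/-- data on the levels `j < J` of `(f, a, s)` and `k < K` of `(b, t)` only, of size `n` -/
structure Pd (J K n : ℕ) (D : Dat F) : Prop where
  pal : ∀ j, Pal (D.f j)
  one : ∀ j, (D.f j).eval 1 ≠ 0
  even : ∀ j, Even (D.f j).natDegree
  zero : D.f 0 = 1 ∧ D.a 0 = 0 ∧ D.b 0 = 0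
  bigf : ∀ j, J ≤ j → D.f j = 1 ∧ D.a j = 0
  bigb : ∀ k, K ≤ k → D.b k = 0
  b_le : ∀ k, D.b k ≤ 2
  s_imp : ∀ j, D.s j = true → Odd j ∧ 0 < D.a j ∧ D.b (j / 2) = 0
  t_imp : ∀ k, D.t k = true → 0 < D.b k ∧ D.b (k - 1) = 0 ∧ D.a (2 * k - 1) = 0
  size : ∑ j ∈ Finset.range J, j * ((D.f j).natDegree / 2 + D.a j) + ∑ k ∈ Finset.range K, k * D.b k = n

/-- normal forms are such data -/
theorem Pd.of_ok {n : ℕ} {D : Dat F} (h : D.Ok n) {J K : ℕ} (hJ : n < J) (hK : n < K) : Pd J K n D where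
  pal j := ⟨h.monic j, h.pal j⟩
  one := h.one
  even := h.even
  zero := h.zero
  bigf j hj := ⟨(h.big j (by omega)).1, (h.big j (by omega)).2.1⟩
  bigb k hk := (h.big k (by omega)).2.2
  b_le := h.b_le
  s_imp := h.s_imp
  t_imp := h.t_imp
  size := by
    have h1 : ∀ (J : ℕ), n < J → ∀ w : ℕ → ℕ, (∀ j, n < j → w j = 0) →
        ∑ j ∈ Finset.range J, w j = ∑ j ∈ Finset.range (n + 1), w j := by
      intro J hJ w hw
      symm
      apply Finset.sum_subset (Finset.range_mono (by omega))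
      intro j _ hj
      apply hw
      simpa using hj
    rw [h1 J hJ, h1 K hK, ← Finset.sum_add_distrib, h.size]
    · intro j hj
      rw [(h.big j hj).2.2, mul_zero]
    · intro j hj
      rw [(h.big j hj).1, (h.big j hj).2.1]
      simp

/-- change the entries `f j, a j, s j` and `b k, t k` -/
noncomputable def upd (j k : ℕ) (D : Dat F) (x : F[X]) (y : ℕ) (s : Bool) (b : ℕ) (t : Bool) : Dat F where
  f := Function.update D.f j x
  a := Function.update D.a j y
  b := Function.update D.b k b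
  s := Function.update D.s j s
  t := Function.update D.t k t

theorem upd_upd (j k : ℕ) (D : Dat F) (x : F[X]) (y : ℕ) (s : Bool) (b : ℕ) (t : Bool) (x' : F[X]) (y' : ℕ) (s' : Bool)
    (b' : ℕ) (t' : Bool) : upd j k (upd j k D x y s b t) x' y' s' b' t' = upd j k D x' y' s' b' t' := by
  simp [upd, Function.update_idem]

theorem upd_self (j k : ℕ) (D : Dat F) : upd j k D (D.f j) (D.a j) (D.s j) (D.b k) (D.t k) = D := by
  simp [upd, Function.update_eq_self]

/-- the entries of level `J` and `K` are removed -/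
noncomputable def res (J K : ℕ) (D : Dat F) : Dat F := upd J K D 1 0 false 0 false

theorem eq_upd_res (J K : ℕ) (D : Dat F) : D = upd J K (res J K D) (D.f J) (D.a J) (D.s J) (D.b K) (D.t K) := by
  rw [res, upd_upd, upd_self]

theorem Pd.mem_pairs {J K n : ℕ} {D : Dat F} (h : Pd J K n D) (j : ℕ) :
    (D.f j, D.a j) ∈ Pairs F ((D.f j).natDegree / 2 + D.a j) := by
  refine ⟨h.pal j, h.one j, ?_⟩
  have := h.even j
  obtain ⟨r, hr⟩ := this
  dsimp only
  omega

/-- removal -/
theorem Pd.res {J K n : ℕ} {D : Dat F} (h : Pd (J + 1) (K + 1) n D) :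
    ∃ m, Pd J K m (res J K D) ∧ J * ((D.f J).natDegree / 2 + D.a J) + K * D.b K + m = n := by
  classical
  refine ⟨∑ j ∈ Finset.range J, j * ((D.f j).natDegree / 2 + D.a j) + ∑ k ∈ Finset.range K, k * D.b k, ?_, ?_⟩
  · constructor
    · intro j
      by_cases hj : j = J
      · subst hj; simp [Num.res, upd, Pal.one]
      · simp [Num.res, upd, hj, h.pal j]
    · intro j
      by_cases hj : j = J
      · subst hj; simp [Num.res, upd]
      · simp [Num.res, upd, hj, h.one j]
    · intro j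
      by_cases hj : j = J
      · subst hj; simp [Num.res, upd]
      · simp [Num.res, upd, hj, h.even j]
    · refine ⟨?_, ?_, ?_⟩
      · by_cases hj : 0 = J
        · subst hj; simp [Num.res, upd]
        · simp [Num.res, upd, hj, h.zero.1]
      · by_cases hj : 0 = J
        · subst hj; simp [Num.res, upd]
        · simp [Num.res, upd, hj, h.zero.2.1]
      · by_cases hj : 0 = K
        · subst hj; simp [Num.res, upd]
        · simp [Num.res, upd, hj, h.zero.2.2]
    · intro j hj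
      by_cases hj' : j = J
      · subst hj'; simp [Num.res, upd]
      · have := h.bigf j (by omega)
        simp [Num.res, upd, hj', this.1, this.2]
    · intro k hk
      by_cases hj' : k = K
      · subst hj'; simp [Num.res, upd]
      · have := h.bigb k (by omega)
        simp [Num.res, upd, hj', this]
    · intro k
      by_cases hj' : k = K
      · subst hj'; simp [Num.res, upd]
      · simp [Num.res, upd, hj', h.b_le k]
    · intro j hs
      by_cases hj : j = J
      · subst hj; simp [Num.res, upd] at hs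
      · have hs' : D.s j = true := by simpa [Num.res, upd, hj] using hs
        have h1 := h.s_imp j hs'
        refine ⟨h1.1, ?_, ?_⟩
        · simpa [Num.res, upd, hj] using h1.2.1
        · by_cases hk : j / 2 = K
          · rw [hk]; simp [Num.res, upd]
          · simpa [Num.res, upd, hk] using h1.2.2
    · intro k ht
      by_cases hk : k = K
      · subst hk; simp [Num.res, upd] at ht
      · have ht' : D.t k = true := by simpa [Num.res, upd, hk] using ht
        have h1 := h.t_imp k ht'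
        refine ⟨?_, ?_, ?_⟩
        · simpa [Num.res, upd, hk] using h1.1
        · by_cases hk : k - 1 = K
          · rw [hk]; simp [Num.res, upd]
          · simpa [Num.res, upd, hk] using h1.2.1
        · by_cases hj : 2 * k - 1 = J
          · rw [hj]; simp [Num.res, upd]
          · simpa [Num.res, upd, hj] using h1.2.2
    · congr 1
      · refine Finset.sum_congr rfl fun j hj => ?_
        have hj' : j ≠ J := (Finset.mem_range.1 hj).ne
        simp [Num.res, upd, hj']
      · refine Finset.sum_congr rfl fun j hj => ?_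
        have hj' : j ≠ K := (Finset.mem_range.1 hj).ne
        simp [Num.res, upd, hj']
  · have := h.size
    rw [Finset.sum_range_succ, Finset.sum_range_succ] at this
    omega

/-- adding an empty level for `b` -/
theorem Pd.succK {J K n : ℕ} {D : Dat F} (h : Pd J K n D) : Pd J (K + 1) n D where
  pal := h.pal
  one := h.one
  even := h.even
  zero := h.zero
  bigf := h.bigf
  bigb k hk := h.bigb k (by omega)
  b_le := h.b_le
  s_imp := h.s_imp
  t_imp := h.t_imp
  size := by
    rw [Finset.sum_range_succ, h.bigb K le_rfl, mul_zero, add_zero, h.size]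

/-- the extra condition (symplectic case) -/
def ex (c : Bool) (D : Dat F) : Prop := c = true → D.s 1 = false ∧ D.t 1 = false

theorem ex_res {c : Bool} {D : Dat F} (h : ex c D) (J K : ℕ) : ex c (res J K D) := by
  intro hc
  obtain ⟨h1, h2⟩ := h hc
  constructor
  · by_cases hJ : 1 = J
    · subst hJ; simp [res, upd]
    · simp [res, upd, hJ, h1]
  · by_cases hJ : 1 = K
    · subst hJ; simp [res, upd]
    · simp [res, upd, hJ, h2]

/-- state `A` : the last `b` is zero -/
def SA (F : Type*) [Field F] (c : Bool) (J K n : ℕ) : Set (Dat F) := {D | Pd J K n D ∧ D.b (K - 1) = 0 ∧ ex c D}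

/-- state `B` : the last `b` is positive -/
def SB (F : Type*) [Field F] (c : Bool) (J K n : ℕ) : Set (Dat F) := {D | Pd J K n D ∧ 0 < D.b (K - 1) ∧ ex c D}

/-- reconstruction map, `a` and `b` of the top level, `e` = shift of `a`, `s` = sign of `a`, `t` = sign of `b` -/
noncomputable def rec1 (J K e : ℕ) (s : Bool) (b : ℕ) (t : Bool) (D : Dat F) (p : F[X] × ℕ) : Dat F :=
  upd J K D p.1 (p.2 + e) s b t

/-- reconstruction map with one bit -/
noncomputable def rec2 (J K b : ℕ) (D : Dat F) (p : F[X] × ℕ) : Dat F :=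
  upd J K D p.1 p.2 (decide (0 < p.2)) b (decide (p.2 = 0))

theorem res_b_pred {k : ℕ} (hk : 1 ≤ k) (J : ℕ) (D : Dat F) : (res J k D).b (k - 1) = D.b (k - 1) := by
  have : k - 1 ≠ k := by omega
  simp [res, upd, this]

theorem stepA (c : Bool) {k : ℕ} (hk : 1 ≤ k) (n : ℕ) : SA F c (2 * k) (k + 1) n ⊆
    Step F (SA F c (2 * k - 1) k) (rec1 (2 * k - 1) k 0 false 0 false) (2 * k - 1) 0 n ∪
    {D ∈ Step F (SA F c (2 * k - 1) k) (rec1 (2 * k - 1) k 1 true 0 false) (2 * k - 1) (2 * k - 1) n |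
      D.s (2 * k - 1) = true ∧ ex c D} ∪
    Step F (SB F c (2 * k - 1) k) (rec1 (2 * k - 1) k 0 false 0 false) (2 * k - 1) 0 n := by
  rintro D ⟨hD, hb, hc⟩
  obtain ⟨J, hJ⟩ : ∃ J, 2 * k = J + 1 := ⟨2 * k - 1, by omega⟩
  have hJ' : 2 * k - 1 = J := by omega
  rw [hJ'] at *
  rw [hJ] at hD
  rw [Nat.add_sub_cancel] at hb
  obtain ⟨m, hm, hsz⟩ := hD.res
  have ht : D.t k = false := by
    by_contra h
    have := (hD.t_imp k (by simpa using h)).1
    omega
  have heq := eq_upd_res J k D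
  rw [hb, ht] at heq
  have hp := hD.mem_pairs J
  rw [hb, mul_zero, add_zero] at hsz
  by_cases hb' : D.b (k - 1) = 0
  · left
    rcases hs : D.s J with _ | _
    · left
      refine ⟨_, m, ?_, res J k D, ⟨hm, by rw [res_b_pred hk]; exact hb', ex_res hc J k⟩, _, hp, ?_⟩
      · omega
      · rw [hs] at heq
        exact heq
    · right
      refine ⟨?_, hs, hc⟩
      have ha := (hD.s_imp J hs).2.1
      refine ⟨(D.f J).natDegree / 2 + (D.a J - 1), m, ?_, res J k D,
        ⟨hm, by rw [res_b_pred hk]; exact hb', ex_res hc J k⟩, (D.f J, D.a J - 1), ⟨hp.1, hp.2.1, ?_⟩, ?_⟩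
      · have : (D.f J).natDegree / 2 + D.a J = (D.f J).natDegree / 2 + (D.a J - 1) + 1 := by omega
        rw [this, mul_add, mul_one] at hsz
        exact hsz
      · have := hp.2.2
        dsimp only at this ⊢
        omega
      · have h1 : D.a J - 1 + 1 = D.a J := by omega
        rw [hs] at heq
        unfold rec1
        dsimp only
        rw [h1]
        exact heq
  · right
    have hs : D.s J = false := by
      by_contra h
      have := (hD.s_imp J (by simpa using h)).2.2
      have h2 : J / 2 = k - 1 := by omega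
      rw [h2] at this
      exact hb' this
    refine ⟨_, m, ?_, res J k D, ⟨hm, by rw [res_b_pred hk]; omega, ex_res hc J k⟩, _, hp, ?_⟩
    · omega
    · rw [hs] at heq
      exact heq

theorem stepB (c : Bool) {k : ℕ} (hk : 1 ≤ k) (n : ℕ) : SB F c (2 * k) (k + 1) n ⊆ ⋃ b ∈ ({1, 2} : Finset ℕ),
    (Step F (SA F c (2 * k - 1) k) (rec1 (2 * k - 1) k 0 false b false) (2 * k - 1) (k * b) n ∪
    {D ∈ Step F (SA F c (2 * k - 1) k) (rec2 (2 * k - 1) k b) (2 * k - 1) (k * b) n |
      (D.s (2 * k - 1) = true ∨ D.t k = true) ∧ ex c D} ∪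
    Step F (SB F c (2 * k - 1) k) (rec1 (2 * k - 1) k 0 false b false) (2 * k - 1) (k * b) n) := by
  rintro D ⟨hD, hb, hc⟩
  obtain ⟨J, hJ⟩ : ∃ J, 2 * k = J + 1 := ⟨2 * k - 1, by omega⟩
  have hJ' : 2 * k - 1 = J := by omega
  rw [hJ'] at *
  rw [hJ] at hD
  rw [Nat.add_sub_cancel] at hb
  obtain ⟨m, hm, hsz⟩ := hD.res
  have heq := eq_upd_res J k D
  have hp := hD.mem_pairs J
  simp only [Set.mem_iUnion]
  refine ⟨D.b k, ?_, ?_⟩
  · have := hD.b_le k
    simp only [Finset.mem_insert, Finset.mem_singleton]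
    omega
  by_cases hb' : D.b (k - 1) = 0
  · left
    by_cases hst : D.s J = false ∧ D.t k = false
    · left
      refine ⟨_, m, hsz, res J k D, ⟨hm, by rw [res_b_pred hk]; exact hb', ex_res hc J k⟩, _, hp, ?_⟩
      rw [hst.1, hst.2] at heq
      exact heq
    · right
      have hst' : D.s J = true ∨ D.t k = true := by
        by_contra h
        rw [not_or, Bool.not_eq_true, Bool.not_eq_true] at h
        exact hst h
      refine ⟨?_, hst', hc⟩
      refine ⟨_, m, hsz, res J k D, ⟨hm, by rw [res_b_pred hk]; exact hb', ex_res hc J k⟩, _, hp, ?_⟩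
      unfold rec2
      dsimp only
      by_cases ha : D.a J = 0
      · have hs : D.s J = false := by
          by_contra h
          have := (hD.s_imp J (by simpa using h)).2.1
          omega
        have ht : D.t k = true := by
          rcases hst' with h | h
          · rw [hs] at h; exact absurd h (by simp)
          · exact h
        rw [hs, ht] at heq
        have h1 : decide (0 < D.a J) = false := by simp [ha]
        have h2 : decide (D.a J = 0) = true := by simp [ha]
        rw [h1, h2]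
        exact heq
      · have ht : D.t k = false := by
          by_contra h
          have := (hD.t_imp k (by simpa using h)).2.2
          rw [show 2 * k - 1 = J by omega] at this
          exact ha this
        have hs : D.s J = true := by
          rcases hst' with h | h
          · exact h
          · rw [ht] at h; exact absurd h (by simp)
        rw [hs, ht] at heq
        have h1 : decide (0 < D.a J) = true := by simp; omega
        have h2 : decide (D.a J = 0) = false := by simp [ha]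
        rw [h1, h2]
        exact heq
  · right
    have hs : D.s J = false := by
      by_contra h
      have := (hD.s_imp J (by simpa using h)).2.2
      have h2 : J / 2 = k - 1 := by omega
      rw [h2] at this
      exact hb' this
    have ht : D.t k = false := by
      by_contra h
      have := (hD.t_imp k (by simpa using h)).2.1
      exact hb' this
    refine ⟨_, m, hsz, res J k D, ⟨hm, by rw [res_b_pred hk]; omega, ex_res hc J k⟩, _, hp, ?_⟩
    rw [hs, ht] at heq
    exact heq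

/-- the even levels -/
theorem stepE {k : ℕ} {n : ℕ} {D : Dat F} (hD : Pd (2 * k + 1) (k + 1) n D) (c : Bool) (hc : ex c D) :
    ∃ m, Pd (2 * k) (k + 1) m (res (2 * k) (k + 1) D) ∧
      2 * k * ((D.f (2 * k)).natDegree / 2 + D.a (2 * k)) + m = n ∧ (res (2 * k) (k + 1) D).b k = D.b k ∧
      ex c (res (2 * k) (k + 1) D) ∧
      D = rec1 (2 * k) (k + 1) 0 false 0 false (res (2 * k) (k + 1) D) (D.f (2 * k), D.a (2 * k)) := by
  obtain ⟨m, hm, hsz⟩ := hD.succK.res
  have hb : D.b (k + 1) = 0 := hD.bigb _ le_rfl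
  rw [hb, mul_zero, add_zero] at hsz
  refine ⟨m, hm, hsz, ?_, ex_res hc _ _, ?_⟩
  · simp [res, upd]
  · have heq := eq_upd_res (2 * k) (k + 1) D
    have hs : D.s (2 * k) = false := by
      by_contra h
      have := (hD.s_imp _ (by simpa using h)).1
      rw [← Nat.not_even_iff_odd] at this
      exact this (even_two_mul k)
    have ht : D.t (k + 1) = false := by
      by_contra h
      have := (hD.t_imp _ (by simpa using h)).1
      omega
    rw [hs, hb, ht] at heq
    exact heq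

theorem stepEA (c : Bool) (k n : ℕ) : SA F c (2 * k + 1) (k + 1) n ⊆
    Step F (SA F c (2 * k) (k + 1)) (rec1 (2 * k) (k + 1) 0 false 0 false) (2 * k) 0 n := by
  rintro D ⟨hD, hb, hc⟩
  obtain ⟨m, hm, hsz, h1, h2, h3⟩ := stepE hD c hc
  exact ⟨_, m, by omega, _, ⟨hm, by rw [Nat.add_sub_cancel, h1]; exact hb, h2⟩, _, hD.mem_pairs _, h3⟩

theorem stepEB (c : Bool) (k n : ℕ) : SB F c (2 * k + 1) (k + 1) n ⊆
    Step F (SB F c (2 * k) (k + 1)) (rec1 (2 * k) (k + 1) 0 false 0 false) (2 * k) 0 n := by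
  rintro D ⟨hD, hb, hc⟩
  obtain ⟨m, hm, hsz, h1, h2, h3⟩ := stepE hD c hc
  exact ⟨_, m, by omega, _, ⟨hm, by rw [Nat.add_sub_cancel, h1]; exact hb, h2⟩, _, hD.mem_pairs _, h3⟩

end Levels

section Bounds

/-- `T` is finite of size at most `C q ^ n` -/
def B1 {α : Type*} (q n : ℕ) (T : Set α) (C : ℚ) : Prop := T.Finite ∧ (T.ncard : ℚ) ≤ C * (q : ℚ) ^ n

theorem B1.subset {α : Type*} {q n : ℕ} {S T : Set α} {C : ℚ} (h : B1 q n T C) (hS : S ⊆ T) : B1 q n S C :=
  ⟨h.1.subset hS, (Nat.cast_le.2 (Set.ncard_le_ncard hS h.1)).trans h.2⟩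

theorem B1.union {α : Type*} {q n : ℕ} {S T : Set α} {C C' : ℚ} (h : B1 q n S C) (h' : B1 q n T C') :
    B1 q n (S ∪ T) (C + C') := by
  refine ⟨h.1.union h'.1, ?_⟩
  have h1 : ((S ∪ T).ncard : ℚ) ≤ S.ncard + T.ncard := by exact_mod_cast Set.ncard_union_le S T
  have h2 := h.2
  have h3 := h'.2
  rw [add_mul]
  linarith

theorem B1.mono {α : Type*} {q n : ℕ} {T : Set α} {C C' : ℚ} (h : B1 q n T C) (hC : C ≤ C') : B1 q n T C' :=
  ⟨h.1, h.2.trans (mul_le_mul_of_nonneg_right hC (by positivity))⟩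

theorem B1.empty {α : Type*} {q n : ℕ} {C : ℚ} (hC : 0 ≤ C) : B1 q n (∅ : Set α) C :=
  ⟨Set.finite_empty, by rw [Set.ncard_empty, Nat.cast_zero]; positivity⟩

theorem iUnion_two {α : Type*} (f : ℕ → Set α) : ⋃ b ∈ ({1, 2} : Finset ℕ), f b = f 1 ∪ f 2 := by
  ext x; simp

theorem Step.mono {α : Type*} {N N' : ℕ → Set α} (h : ∀ m, N m ⊆ N' m) (Φ : α → F[X] × ℕ → α) (L c n : ℕ) :
    Step F N Φ L c n ⊆ Step F N' Φ L c n := by
  rintro D ⟨d, m, h1, D', hD', p, hp, h2⟩
  exact ⟨d, m, h1, D', h m hD', p, hp, h2⟩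

/-- the trivial data -/
noncomputable def D0 (F : Type*) [Field F] : Dat F where
  f _ := 1
  a _ := 0
  b _ := 0
  s _ := false
  t _ := false

theorem pd_one {m : ℕ} {D : Dat F} (h : Pd 1 1 m D) : D = D0 F ∧ m = 0 := by
  have hf : D.f = fun _ => 1 := by
    funext j
    rcases Nat.eq_zero_or_pos j with rfl | hj
    · exact h.zero.1
    · exact (h.bigf j hj).1
  have ha : D.a = fun _ => 0 := by
    funext j
    rcases Nat.eq_zero_or_pos j with rfl | hj
    · exact h.zero.2.1
    · exact (h.bigf j hj).2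
  have hb : D.b = fun _ => 0 := by
    funext j
    rcases Nat.eq_zero_or_pos j with rfl | hj
    · exact h.zero.2.2
    · exact h.bigb j hj
  have hs : D.s = fun _ => false := by
    funext j
    by_contra hh
    have := (h.s_imp j (by simpa using hh)).2.1
    rw [ha] at this
    exact absurd this (by simp)
  have ht : D.t = fun _ => false := by
    funext j
    by_contra hh
    have := (h.t_imp j (by simpa using hh)).1
    rw [hb] at this
    exact absurd this (by simp)
  constructor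
  · cases D
    simp only at hf ha hb hs ht
    subst hf ha hb hs ht
    rfl
  · rw [← h.size]
    simp

theorem SA_one (c : Bool) (m : ℕ) : SA F c 1 1 m ⊆ (if m = 0 then {D0 F} else ∅ : Set (Dat F)) := by
  rintro D ⟨hD, -, -⟩
  obtain ⟨h1, h2⟩ := pd_one hD
  rw [if_pos h2, h1]
  rfl

theorem SB_one (c : Bool) (m : ℕ) : SB F c 1 1 m = ∅ := by
  rw [Set.eq_empty_iff_forall_notMem]
  rintro D ⟨hD, hb, -⟩
  rw [(pd_one hD).1] at hb
  exact absurd hb (by simp [D0])

variable [Finite F]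

theorem step_B1 {α : Type*} {N : ℕ → Set α} {C : ℚ} (hC : 0 ≤ C) (hN : ∀ m, B1 (Nat.card F) m (N m) C)
    (Φ : α → F[X] × ℕ → α) (L c n : ℕ) (hL : 2 ≤ L) (u : ℚ) (hu : u = 1 / (Nat.card F : ℚ)) :
    B1 (Nat.card F) n (Step F N Φ L c n) (C * u ^ c * (1 / (1 - u ^ (L - 1)))) := by
  rw [hu]
  exact step_bd hC hN Φ L c n hL

theorem step_one_B1 (Φ : Dat F → F[X] × ℕ → Dat F) (c n : ℕ) (u : ℚ) (hu : u = 1 / (Nat.card F : ℚ))
    {N : ℕ → Set (Dat F)} (hN : ∀ m, N m ⊆ (if m = 0 then {D0 F} else ∅ : Set (Dat F))) :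
    B1 (Nat.card F) n (Step F N Φ 1 c n) (u ^ c) := by
  rw [hu]
  have h := step_one (F := F) (D0 F) Φ c n
  exact B1.subset (q := Nat.card F) (C := (1 / (Nat.card F : ℚ)) ^ c) ⟨h.1, h.2⟩ (Step.mono hN Φ 1 c n)

/-- the bounds after level `2 (k + 1)` -/
def al (c : Bool) (u : ℚ) : ℕ → ℚ × ℚ
  | 0 => ((1 + cond c 0 u) * (1 / (1 - u)), (u + u ^ 2 + cond c 0 (u + u ^ 2)) * (1 / (1 - u)))
  | k + 1 => (((al c u k).1 * (1 + u ^ (2 * k + 3)) + (al c u k).2) *
      (1 / (1 - u ^ (2 * k + 2))) * (1 / (1 - u ^ (2 * k + 3))),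
      (u ^ (k + 2) + u ^ (2 * k + 4)) * (2 * (al c u k).1 + (al c u k).2) *
      (1 / (1 - u ^ (2 * k + 2))) * (1 / (1 - u ^ (2 * k + 3))))

theorem al_nonneg (c : Bool) {u : ℚ} (h0 : 0 ≤ u) (h1 : u < 1) (k : ℕ) : 0 ≤ (al c u k).1 ∧ 0 ≤ (al c u k).2 := by
  have hg : ∀ m : ℕ, 0 ≤ 1 / (1 - u ^ m) := by
    intro m
    apply div_nonneg zero_le_one
    have := pow_le_one₀ (n := m) h0 h1.le
    linarith
  induction k with
  | zero =>
    have := hg 1
    rw [pow_one] at this
    have hc : 0 ≤ cond c 0 u := by cases c <;> simp [h0]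
    have hc' : 0 ≤ cond c 0 (u + u ^ 2) := by cases c <;> first | (simp; positivity) | simp
    constructor
    · unfold al
      exact mul_nonneg (by linarith) this
    · unfold al
      exact mul_nonneg (by positivity) this
  | succ k ih =>
    obtain ⟨i1, i2⟩ := ih
    have g1 := hg (2 * k + 2)
    have g2 := hg (2 * k + 3)
    constructor
    · rw [al]
      exact mul_nonneg (mul_nonneg (by positivity) g1) g2
    · rw [al]
      exact mul_nonneg (mul_nonneg (by positivity) g1) g2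

theorem bound_aux (c : Bool) (u : ℚ) (hu : u = 1 / (Nat.card F : ℚ)) (k : ℕ) : ∀ n,
    B1 (Nat.card F) n (SA F c (2 * (k + 1) + 1) (k + 1 + 1) n) (al c u k).1 ∧
    B1 (Nat.card F) n (SB F c (2 * (k + 1) + 1) (k + 1 + 1) n) (al c u k).2 := by
  have hq1 : 1 < Nat.card F := Finite.one_lt_card
  have hq0 : (0 : ℚ) < Nat.card F := by exact_mod_cast (by omega : 0 < Nat.card F)
  have hu0 : 0 < u := by rw [hu]; positivity
  have hu1 : u < 1 := by rw [hu, div_lt_one hq0]; exact_mod_cast hq1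
  induction k with
  | zero =>
    -- after level 1
    have hA : ∀ n, B1 (Nat.card F) n (SA F c 2 2 n) (1 + cond c 0 u) := by
      intro n
      refine B1.subset ?_ (stepA c le_rfl n)
      have e1 := step_one_B1 (F := F) (rec1 (2 * 1 - 1) 1 0 false 0 false) 0 n u hu (SA_one c)
      rw [pow_zero] at e1
      have e3 : B1 (Nat.card F) n (Step F (SB F c (2 * 1 - 1) 1) (rec1 (2 * 1 - 1) 1 0 false 0 false)
          (2 * 1 - 1) 0 n) 0 := by
        refine B1.subset (B1.empty le_rfl) ?_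
        rintro D ⟨d, m, -, D', hD', -⟩
        have : D' ∈ SB F c 1 1 m := hD'
        rw [SB_one] at this
        exact absurd this (Set.notMem_empty _)
      cases c
      · have e2 := step_one_B1 (F := F) (rec1 (2 * 1 - 1) 1 1 true 0 false) 1 n u hu (SA_one false)
        rw [pow_one] at e2
        have := (e1.union (B1.subset e2 (Set.sep_subset _ (fun D => D.s (2 * 1 - 1) = true ∧ ex false D)))).union e3
        simpa using this
      · have e2 : B1 (Nat.card F) n {D ∈ Step F (SA F true (2 * 1 - 1) 1) (rec1 (2 * 1 - 1) 1 1 true 0 false) (2 * 1 - 1)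
            (2 * 1 - 1) n | D.s (2 * 1 - 1) = true ∧ ex true D} 0 := by
          refine B1.subset (B1.empty le_rfl) ?_
          rintro D ⟨-, h1, h2⟩
          have := (h2 rfl).1
          simp [this] at h1
        have := (e1.union e2).union e3
        simpa using this
    have hB : ∀ n, B1 (Nat.card F) n (SB F c 2 2 n) (u + u ^ 2 + cond c 0 (u + u ^ 2)) := by
      intro n
      refine B1.subset ?_ (stepB c le_rfl n)
      rw [iUnion_two]
      have key : ∀ b : ℕ, B1 (Nat.card F) n (Step F (SA F c (2 * 1 - 1) 1) (rec1 (2 * 1 - 1) 1 0 false b false) (2 * 1 - 1)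
          (1 * b) n ∪
          {D ∈ Step F (SA F c (2 * 1 - 1) 1) (rec2 (2 * 1 - 1) 1 b) (2 * 1 - 1) (1 * b) n |
            (D.s (2 * 1 - 1) = true ∨ D.t 1 = true) ∧ ex c D} ∪
          Step F (SB F c (2 * 1 - 1) 1) (rec1 (2 * 1 - 1) 1 0 false b false) (2 * 1 - 1) (1 * b) n)
          (u ^ b + cond c 0 (u ^ b)) := by
        intro b
        have e1 := step_one_B1 (F := F) (rec1 (2 * 1 - 1) 1 0 false b false) (1 * b) n u hu (SA_one c)
        have e3 : B1 (Nat.card F) n (Step F (SB F c (2 * 1 - 1) 1) (rec1 (2 * 1 - 1) 1 0 false b false)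
            (2 * 1 - 1) (1 * b) n) 0 := by
          refine B1.subset (B1.empty le_rfl) ?_
          rintro D ⟨d, m, -, D', hD', -⟩
          have : D' ∈ SB F c 1 1 m := hD'
          rw [SB_one] at this
          exact absurd this (Set.notMem_empty _)
        cases c
        · have e2 := step_one_B1 (F := F) (rec2 (2 * 1 - 1) 1 b) (1 * b) n u hu (SA_one false)
          have := (e1.union (B1.subset e2 (Set.sep_subset _
            (fun D => (D.s (2 * 1 - 1) = true ∨ D.t 1 = true) ∧ ex false D)))).union e3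
          simpa using this
        · have e2 : B1 (Nat.card F) n {D ∈ Step F (SA F true (2 * 1 - 1) 1) (rec2 (2 * 1 - 1) 1 b) (2 * 1 - 1)
              (1 * b) n | (D.s (2 * 1 - 1) = true ∨ D.t 1 = true) ∧ ex true D} 0 := by
            refine B1.subset (B1.empty le_rfl) ?_
            rintro D ⟨-, h1, h2⟩
            have h3 := h2 rfl
            rcases h1 with h1 | h1
            · simp [h3.1] at h1
            · simp [h3.2] at h1
          have := (e1.union e2).union e3
          simpa using this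
      refine ((key 1).union (key 2)).mono (le_of_eq ?_)
      cases c
      · simp only [cond_false]; ring
      · simp only [cond_true]; ring
    intro n
    have hc : 0 ≤ cond c 0 u := by cases c <;> simp [hu0.le]
    have hc' : 0 ≤ cond c 0 (u + u ^ 2) := by cases c <;> first | (simp; positivity) | simp
    constructor
    · refine (B1.subset (step_B1 (by linarith) hA _ (2 * 1) 0 n le_rfl u hu) (stepEA c 1 n)).mono (le_of_eq ?_)
      simp [al]
    · refine (B1.subset (step_B1 (by positivity) hB _ (2 * 1) 0 n le_rfl u hu) (stepEB c 1 n)).mono (le_of_eq ?_)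
      simp [al]
  | succ k ih =>
    obtain ⟨n1, n2⟩ := al_nonneg c hu0.le hu1 k
    have ihA : ∀ m, B1 (Nat.card F) m (SA F c (2 * (k + 2) - 1) (k + 2) m) (al c u k).1 := fun m => by
      have := (ih m).1
      rwa [show 2 * (k + 1) + 1 = 2 * (k + 2) - 1 by omega, show k + 1 + 1 = k + 2 by omega] at this
    have ihB : ∀ m, B1 (Nat.card F) m (SB F c (2 * (k + 2) - 1) (k + 2) m) (al c u k).2 := fun m => by
      have := (ih m).2
      rwa [show 2 * (k + 1) + 1 = 2 * (k + 2) - 1 by omega, show k + 1 + 1 = k + 2 by omega] at this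
    set α := (al c u k).1 with hα
    set β := (al c u k).2 with hβ
    have hg : ∀ m : ℕ, 0 ≤ 1 / (1 - u ^ m) := by
      intro m
      apply div_nonneg zero_le_one
      have := pow_le_one₀ (n := m) hu0.le hu1.le
      linarith
    have hexp : 2 * (k + 2) - 1 - 1 = 2 * k + 2 := by omega
    have hA : ∀ n, B1 (Nat.card F) n (SA F c (2 * (k + 2)) (k + 2 + 1) n)
        ((α * (1 + u ^ (2 * k + 3)) + β) * (1 / (1 - u ^ (2 * k + 2)))) := by
      intro n
      refine (B1.subset ?_ (stepA c (show 1 ≤ k + 2 by omega) n)).mono (le_of_eq (?_ :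
        α * u ^ 0 * (1 / (1 - u ^ (2 * (k + 2) - 1 - 1))) +
        α * u ^ (2 * (k + 2) - 1) * (1 / (1 - u ^ (2 * (k + 2) - 1 - 1))) +
        β * u ^ 0 * (1 / (1 - u ^ (2 * (k + 2) - 1 - 1))) = _))
      · exact ((step_B1 n1 ihA _ _ 0 n (by omega) u hu).union
          (B1.subset (step_B1 n1 ihA _ _ _ n (by omega) u hu) (Set.sep_subset _ _))).union
          (step_B1 n2 ihB _ _ 0 n (by omega) u hu)
      · rw [hexp, show 2 * (k + 2) - 1 = 2 * k + 3 by omega]; ring
    have hB : ∀ n, B1 (Nat.card F) n (SB F c (2 * (k + 2)) (k + 2 + 1) n)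
        ((u ^ (k + 2) + u ^ (2 * k + 4)) * (2 * α + β) * (1 / (1 - u ^ (2 * k + 2)))) := by
      intro n
      refine B1.subset ?_ (stepB c (show 1 ≤ k + 2 by omega) n)
      rw [iUnion_two]
      have key : ∀ b : ℕ, B1 (Nat.card F) n
          (Step F (SA F c (2 * (k + 2) - 1) (k + 2)) (rec1 (2 * (k + 2) - 1) (k + 2) 0 false b false) (2 * (k + 2) - 1)
            ((k + 2) * b) n ∪
          {D ∈ Step F (SA F c (2 * (k + 2) - 1) (k + 2)) (rec2 (2 * (k + 2) - 1) (k + 2) b) (2 * (k + 2) - 1)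
            ((k + 2) * b) n | (D.s (2 * (k + 2) - 1) = true ∨ D.t (k + 2) = true) ∧ ex c D} ∪
          Step F (SB F c (2 * (k + 2) - 1) (k + 2)) (rec1 (2 * (k + 2) - 1) (k + 2) 0 false b false)
            (2 * (k + 2) - 1) ((k + 2) * b) n)
          (α * u ^ ((k + 2) * b) * (1 / (1 - u ^ (2 * (k + 2) - 1 - 1))) +
            α * u ^ ((k + 2) * b) * (1 / (1 - u ^ (2 * (k + 2) - 1 - 1))) +
            β * u ^ ((k + 2) * b) * (1 / (1 - u ^ (2 * (k + 2) - 1 - 1)))) := by
        intro b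
        exact ((step_B1 n1 ihA _ _ _ n (by omega) u hu).union
          (B1.subset (step_B1 n1 ihA _ _ _ n (by omega) u hu) (Set.sep_subset _ _))).union
          (step_B1 n2 ihB _ _ _ n (by omega) u hu)
      refine ((key 1).union (key 2)).mono (le_of_eq ?_)
      rw [hexp, show (k + 2) * 1 = k + 2 by omega, show (k + 2) * 2 = 2 * k + 4 by omega]
      ring
    intro n
    have hexp2 : 2 * (k + 2) - 1 = 2 * k + 3 := by omega
    constructor
    · refine (B1.subset (step_B1 ?_ hA _ (2 * (k + 2)) 0 n (by omega) u hu) (stepEA c (k + 2) n)).mono (le_of_eq ?_)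
      · exact mul_nonneg (by positivity) (hg _)
      · rw [al, hexp2, pow_zero, mul_one]
    · refine (B1.subset (step_B1 ?_ hB _ (2 * (k + 2)) 0 n (by omega) u hu) (stepEB c (k + 2) n)).mono (le_of_eq ?_)
      · exact mul_nonneg (by positivity) (hg _)
      · rw [al, hexp2, pow_zero, mul_one]

/-- **the transfer bound** -/
theorem card_ok_le (c : Bool) (u : ℚ) (hu : u = 1 / (Nat.card F : ℚ)) (n : ℕ) :
    Finite {D : Dat F // D.Ok n ∧ ex c D} ∧
    (Nat.card {D : Dat F // D.Ok n ∧ ex c D} : ℚ) ≤ ((al c u n).1 + (al c u n).2) * (Nat.card F : ℚ) ^ n := by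
  have h := bound_aux (F := F) c u hu n n
  have hsub : {D : Dat F | D.Ok n ∧ ex c D} ⊆
      SA F c (2 * (n + 1) + 1) (n + 1 + 1) n ∪ SB F c (2 * (n + 1) + 1) (n + 1 + 1) n := by
    rintro D ⟨hD, hc⟩
    have h1 := Pd.of_ok hD (show n < 2 * (n + 1) + 1 by omega) (show n < n + 1 + 1 by omega)
    rcases Nat.eq_zero_or_pos (D.b (n + 1 + 1 - 1)) with h2 | h2
    · exact Or.inl ⟨h1, h2, hc⟩
    · exact Or.inr ⟨h1, h2, hc⟩
  exact B1.subset (h.1.union h.2) hsub

end Bounds

end Cfsg.Agent.H173.Num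
end

-- part: H173/NumMain
section
/-!
# The numbers of data of conjugacy classes of orthogonal and symplectic groups in characteristic two (helper173)

`card_dat_two` (N1), `card_dat` (N2), `card_dat_free` (N3), `card_dat_sp` (N4), `finite_dat`.
-/

set_option autoImplicit false

namespace Cfsg.Agent.H173.Num

open Polynomial Cfsg.Agent.H170 Cfsg.Agent.H171

section Numeric

theorem inv_one_sub_le {a b : ℚ} (hab : a ≤ b) (hb : b < 1) : 1 / (1 - a) ≤ 1 / (1 - b) :=
  one_div_le_one_div_of_le (by linarith) (by linarith)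

/-- monotonicity in `u` -/
theorem al_mono (c : Bool) {u v : ℚ} (h0 : 0 ≤ u) (huv : u ≤ v) (hv : v < 1) (k : ℕ) :
    (al c u k).1 ≤ (al c v k).1 ∧ (al c u k).2 ≤ (al c v k).2 := by
  have hg : ∀ m : ℕ, 0 < m → 1 / (1 - u ^ m) ≤ 1 / (1 - v ^ m) := by
    intro m hm
    apply inv_one_sub_le (pow_le_pow_left₀ h0 huv m)
    exact pow_lt_one₀ (h0.trans huv) hv hm.ne'
  have hg0 : ∀ m : ℕ, 0 ≤ 1 / (1 - u ^ m) := by
    intro m
    apply div_nonneg zero_le_one
    have := pow_le_one₀ (n := m) h0 (huv.trans hv.le)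
    linarith
  have hp : ∀ m : ℕ, u ^ m ≤ v ^ m := fun m => pow_le_pow_left₀ h0 huv m
  have hv0 : 0 ≤ v := h0.trans huv
  induction k with
  | zero =>
    have h1 := hg 1 one_pos
    have h2 := hg0 1
    rw [pow_one] at h1 h2
    rw [pow_one] at h1
    have hc : 0 ≤ cond c 0 u := by cases c <;> simp [h0]
    have hc' : cond c 0 u ≤ cond c 0 v := by cases c <;> simp [huv]
    have hd : 0 ≤ cond c 0 (u + u ^ 2) := by
      cases c
      · simp; positivity
      · simp
    have hp2 := hp 2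
    have hd' : cond c 0 (u + u ^ 2) ≤ cond c 0 (v + v ^ 2) := by
      cases c
      · simp; linarith
      · simp
    constructor
    · unfold al
      apply mul_le_mul (by linarith) h1 h2 (by linarith)
    · unfold al
      apply mul_le_mul (by linarith) h1 h2
      have : 0 ≤ v ^ 2 := by positivity
      linarith
  | succ k ih =>
    obtain ⟨i1, i2⟩ := ih
    obtain ⟨n1, n2⟩ := al_nonneg c h0 (huv.trans_lt hv) k
    obtain ⟨m1, m2⟩ := al_nonneg c hv0 hv k
    have g1 := hg (2 * k + 2) (by omega)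
    have g2 := hg (2 * k + 3) (by omega)
    have g10 := hg0 (2 * k + 2)
    have g20 := hg0 (2 * k + 3)
    have g11 := g10.trans g1
    have g21 := g20.trans g2
    have p1 := hp (2 * k + 3)
    have p2 := hp (k + 2)
    have p3 := hp (2 * k + 4)
    constructor
    · rw [al, al]
      dsimp only
      gcongr
    · rw [al, al]
      dsimp only
      gcongr

/-- the total -/
def tot (c : Bool) (u : ℚ) (k : ℕ) : ℚ := (al c u k).1 + (al c u k).2

theorem tot_mono (c : Bool) {u v : ℚ} (h0 : 0 ≤ u) (huv : u ≤ v) (hv : v < 1) (k : ℕ) : tot c u k ≤ tot c v k := by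
  have := al_mono c h0 huv hv k
  unfold tot
  linarith [this.1, this.2]

theorem tot_nonneg (c : Bool) {u : ℚ} (h0 : 0 ≤ u) (h1 : u < 1) (k : ℕ) : 0 ≤ tot c u k := by
  have := al_nonneg c h0 h1 k
  unfold tot
  linarith [this.1, this.2]

theorem one_le_inv {x : ℚ} (h0 : 0 ≤ x) (h1 : x < 1) : 1 ≤ 1 / (1 - x) := by
  rw [le_div_iff₀ (by linarith)]; linarith

theorem tot_le_succ (c : Bool) {u : ℚ} (h0 : 0 ≤ u) (h1 : u < 1) (k : ℕ) : tot c u k ≤ tot c u (k + 1) := by
  obtain ⟨n1, n2⟩ := al_nonneg c h0 h1 k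
  have g1 := one_le_inv (x := u ^ (2 * k + 2)) (by positivity) (pow_lt_one₀ h0 h1 (by omega))
  have g2 := one_le_inv (x := u ^ (2 * k + 3)) (by positivity) (pow_lt_one₀ h0 h1 (by omega))
  have h2 := (al_nonneg c h0 h1 (k + 1)).2
  unfold tot
  have h3 : (al c u k).1 + (al c u k).2 ≤ (al c u (k + 1)).1 := by
    rw [al]
    dsimp only
    have h4 : (al c u k).1 + (al c u k).2 ≤ (al c u k).1 * (1 + u ^ (2 * k + 3)) + (al c u k).2 := by
      have : 0 ≤ (al c u k).1 * u ^ (2 * k + 3) := by positivity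
      linarith
    have h5 : 0 ≤ (al c u k).1 + (al c u k).2 := by linarith
    calc (al c u k).1 + (al c u k).2 = ((al c u k).1 + (al c u k).2) * 1 * 1 := by ring
      _ ≤ _ := by
        gcongr
  linarith

theorem tot_le_of_le (c : Bool) {u : ℚ} (h0 : 0 ≤ u) (h1 : u < 1) {k l : ℕ} (hkl : k ≤ l) : tot c u k ≤ tot c u l := by
  induction hkl with
  | refl => exact le_rfl
  | step _ ih => exact ih.trans (tot_le_succ c h0 h1 _)

theorem tot_succ_le (c : Bool) {u : ℚ} (h0 : 0 ≤ u) (h1 : u < 1) (k : ℕ) : tot c u (k + 1) ≤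
    tot c u k * (1 + u ^ (2 * k + 3) + 2 * (u ^ (k + 2) + u ^ (2 * k + 4))) *
      (1 / (1 - u ^ (2 * k + 2))) * (1 / (1 - u ^ (2 * k + 3))) := by
  obtain ⟨n1, n2⟩ := al_nonneg c h0 h1 k
  have g1 : 0 ≤ 1 / (1 - u ^ (2 * k + 2)) :=
    zero_le_one.trans (one_le_inv (x := u ^ (2 * k + 2)) (by positivity) (pow_lt_one₀ h0 h1 (by omega)))
  have g2 : 0 ≤ 1 / (1 - u ^ (2 * k + 3)) :=
    zero_le_one.trans (one_le_inv (x := u ^ (2 * k + 3)) (by positivity) (pow_lt_one₀ h0 h1 (by omega)))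
  unfold tot
  rw [al]
  dsimp only
  rw [← add_mul, ← add_mul]
  apply mul_le_mul_of_nonneg_right _ g2
  apply mul_le_mul_of_nonneg_right _ g1
  have h2 : 0 ≤ (al c u k).2 * u ^ (2 * k + 3) := by positivity
  have h3 : 0 ≤ (al c u k).2 * (u ^ (k + 2) + u ^ (2 * k + 4)) := by positivity
  nlinarith

/-- the tail: `tot k * (1 + γ u^(k+1))` does not increase -/
theorem tail (c : Bool) {u γ : ℚ} (h0 : 0 < u) (h1 : u < 1) (hγ : 0 ≤ γ) (k0 : ℕ)
    (h : ∀ x : ℚ, 0 ≤ x → x ≤ u ^ (k0 + 1) →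
      (1 + x ^ 2 * u + 2 * (x * u + x ^ 2 * u ^ 2)) * (1 + γ * (x * u)) ≤ (1 + γ * x) * (1 - x ^ 2) * (1 - x ^ 2 * u))
    {k : ℕ} (hk : k0 ≤ k) : tot c u k * (1 + γ * u ^ (k + 1)) ≤ tot c u k0 * (1 + γ * u ^ (k0 + 1)) := by
  induction k, hk using Nat.le_induction with
  | base => exact le_rfl
  | succ k hk ih =>
    refine le_trans ?_ ih
    have h2 := tot_succ_le c h0.le h1 k
    have hx := h (u ^ (k + 1)) (by positivity) (pow_le_pow_of_le_one h0.le h1.le (by omega))
    have e1 : u ^ (2 * k + 3) = (u ^ (k + 1)) ^ 2 * u := by ring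
    have e2 : u ^ (k + 2) = u ^ (k + 1) * u := by ring
    have e3 : u ^ (2 * k + 4) = (u ^ (k + 1)) ^ 2 * u ^ 2 := by ring
    have e4 : u ^ (2 * k + 2) = (u ^ (k + 1)) ^ 2 := by ring
    have e5 : u ^ (k + 1 + 1) = u ^ (k + 1) * u := by ring
    rw [e1, e2, e3, e4] at h2
    rw [e5]
    set x := u ^ (k + 1) with hxdef
    have hx0 : 0 < x := by positivity
    have hx1 : x < 1 := pow_lt_one₀ h0.le h1 (by omega)
    have hT := tot_nonneg c h0.le h1 k
    have d1 : 0 < 1 - x ^ 2 := by nlinarith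
    have d2 : 0 < 1 - x ^ 2 * u := by nlinarith [mul_pos hx0 hx0]
    calc tot c u (k + 1) * (1 + γ * (x * u))
        ≤ (tot c u k * (1 + x ^ 2 * u + 2 * (x * u + x ^ 2 * u ^ 2)) * (1 / (1 - x ^ 2)) * (1 / (1 - x ^ 2 * u))) *
          (1 + γ * (x * u)) := mul_le_mul_of_nonneg_right h2 (by positivity)
      _ = tot c u k * ((1 + x ^ 2 * u + 2 * (x * u + x ^ 2 * u ^ 2)) * (1 + γ * (x * u))) *
          (1 / ((1 - x ^ 2) * (1 - x ^ 2 * u))) := by
        rw [← one_div_mul_one_div (1 - x ^ 2)]; ring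
      _ ≤ tot c u k * ((1 + γ * x) * (1 - x ^ 2) * (1 - x ^ 2 * u)) * (1 / ((1 - x ^ 2) * (1 - x ^ 2 * u))) := by
        gcongr
      _ = tot c u k * (1 + γ * x) := by
        field_simp

theorem tot_le (c : Bool) {u γ B : ℚ} (h0 : 0 < u) (h1 : u < 1) (hγ : 0 ≤ γ) (k0 : ℕ)
    (h : ∀ x : ℚ, 0 ≤ x → x ≤ u ^ (k0 + 1) →
      (1 + x ^ 2 * u + 2 * (x * u + x ^ 2 * u ^ 2)) * (1 + γ * (x * u)) ≤ (1 + γ * x) * (1 - x ^ 2) * (1 - x ^ 2 * u))
    (hB : tot c u k0 * (1 + γ * u ^ (k0 + 1)) ≤ B) (k : ℕ) : tot c u k ≤ B := by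
  have h2 := tail c h0 h1 hγ k0 h (le_max_right k k0)
  have h3 := tot_le_of_le c h0.le h1 (le_max_left k k0)
  have h4 := tot_nonneg c h0.le h1 (max k k0)
  have h5 : 0 ≤ tot c u (max k k0) * (γ * u ^ (max k k0 + 1)) := by positivity
  nlinarith

theorem half_tail (x : ℚ) (h0 : 0 ≤ x) (h1 : x ≤ (1 / 2 : ℚ) ^ (6 + 1)) :
    (1 + x ^ 2 * (1 / 2) + 2 * (x * (1 / 2) + x ^ 2 * (1 / 2) ^ 2)) * (1 + 21 / 10 * (x * (1 / 2))) ≤
      (1 + 21 / 10 * x) * (1 - x ^ 2) * (1 - x ^ 2 * (1 / 2)) := by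
  norm_num at h1
  have h2 : x ^ 2 ≤ x * (1 / 128) := by nlinarith
  have h3 : x ^ 3 ≤ x * (1 / 16384) := by nlinarith [mul_nonneg h0 h0]
  have h4 : 0 ≤ x ^ 4 := by positivity
  have h5 : 0 ≤ x ^ 5 := by positivity
  nlinarith

theorem quarter_tail (x : ℚ) (h0 : 0 ≤ x) (h1 : x ≤ (1 / 4 : ℚ) ^ (2 + 1)) :
    (1 + x ^ 2 * (1 / 4) + 2 * (x * (1 / 4) + x ^ 2 * (1 / 4) ^ 2)) * (1 + 1 * (x * (1 / 4))) ≤
      (1 + 1 * x) * (1 - x ^ 2) * (1 - x ^ 2 * (1 / 4)) := by
  norm_num at h1
  have h2 : x ^ 2 ≤ x * (1 / 64) := by nlinarith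
  have h3 : x ^ 3 ≤ x * (1 / 4096) := by nlinarith [mul_nonneg h0 h0]
  have h4 : 0 ≤ x ^ 4 := by positivity
  have h5 : 0 ≤ x ^ 5 := by positivity
  nlinarith

theorem tot_half_false (k : ℕ) : tot false (1 / 2) k ≤ 256 / 10 := by
  refine tot_le false (γ := 21 / 10) (by norm_num) (by norm_num) (by norm_num) 6 half_tail ?_ k
  norm_num [tot, al]

theorem tot_half_true (k : ℕ) : tot true (1 / 2) k ≤ 76 / 5 := by
  refine tot_le true (γ := 21 / 10) (by norm_num) (by norm_num) (by norm_num) 6 half_tail ?_ k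
  norm_num [tot, al]

theorem tot_quarter (k : ℕ) : tot false (1 / 4) k ≤ 4 := by
  refine tot_le false (γ := 1) (by norm_num) (by norm_num) (by norm_num) 2 quarter_tail ?_ k
  norm_num [tot, al]

end Numeric

section Free

variable {F : Type*} [Field F]

/-- data without signs and without `b` -/
def SR (F : Type*) [Field F] (J n : ℕ) : Set (Dat F) :=
  {D | Pd J 1 n D ∧ (∀ j, Odd j → D.a j = 0) ∧ ∀ k, D.b k = 0}

theorem SR_one (m : ℕ) : SR F 1 m ⊆ (if m = 0 then {D0 F} else ∅ : Set (Dat F)) := by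
  rintro D ⟨hD, -, -⟩
  obtain ⟨h1, h2⟩ := pd_one hD
  rw [if_pos h2, h1]
  rfl

theorem stepR (J n : ℕ) : SR F (J + 1) n ⊆ Step F (SR F J) (rec1 J 1 0 false 0 false) J 0 n := by
  rintro D ⟨hD, ha, hb⟩
  obtain ⟨m, hm, hsz⟩ := hD.succK.res
  have hs : D.s J = false := by
    by_contra h
    obtain ⟨h1, h2, -⟩ := hD.s_imp J (by simpa using h)
    rw [ha J h1] at h2
    exact absurd h2 (lt_irrefl 0)
  have ht : D.t 1 = false := by
    by_contra h
    have := (hD.t_imp _ (by simpa using h)).1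
    rw [hb] at this
    exact absurd this (lt_irrefl 0)
  have heq := eq_upd_res J 1 D
  rw [hs, hb 1, ht] at heq
  rw [hb 1, mul_zero, add_zero] at hsz
  refine ⟨_, m, by omega, res J 1 D, ⟨hm, ?_, ?_⟩, _, hD.mem_pairs J, heq⟩
  · intro j hj
    by_cases hjJ : j = J
    · subst hjJ; simp [res, upd]
    · simp [res, upd, hjJ, ha j hj]
  · intro k
    by_cases hk : k = 1
    · subst hk; simp [res, upd]
    · simp [res, upd, hk, hb k]

/-- the product -/
def pr (u : ℚ) : ℕ → ℚ
  | 0 => 1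
  | k + 1 => pr u k * (1 / (1 - u ^ (k + 1)))

theorem pr_pos {u : ℚ} (h0 : 0 ≤ u) (h1 : u < 1) (k : ℕ) : 0 < pr u k := by
  induction k with
  | zero => exact one_pos
  | succ k ih =>
    rw [pr]
    exact mul_pos ih (lt_of_lt_of_le one_pos (one_le_inv (by positivity) (pow_lt_one₀ h0 h1 (by omega))))

theorem pr_le_succ {u : ℚ} (h0 : 0 ≤ u) (h1 : u < 1) (k : ℕ) : pr u k ≤ pr u (k + 1) := by
  rw [pr]
  have h2 := one_le_inv (x := u ^ (k + 1)) (by positivity) (pow_lt_one₀ h0 h1 (by omega))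
  have h3 := pr_pos h0 h1 k
  nlinarith

theorem pr_le_of_le {u : ℚ} (h0 : 0 ≤ u) (h1 : u < 1) {k l : ℕ} (hkl : k ≤ l) : pr u k ≤ pr u l := by
  induction hkl with
  | refl => exact le_rfl
  | step _ ih => exact ih.trans (pr_le_succ h0 h1 _)

/-- the product for `u = 1 / 2` -/
theorem pr_half (k : ℕ) : pr (1 / 2) k ≤ 347 / 100 := by
  have h : ∀ k, 8 ≤ k → pr (1 / 2) k * (1 + 101 / 100 * (1 / 2 : ℚ) ^ k) ≤
      pr (1 / 2) 8 * (1 + 101 / 100 * (1 / 2 : ℚ) ^ 8) := by
    intro k hk
    induction k, hk using Nat.le_induction with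
    | base => exact le_rfl
    | succ k hk ih =>
      refine le_trans ?_ ih
      rw [pr]
      have hx : (1 / 2 : ℚ) ^ k ≤ (1 / 2) ^ 8 := pow_le_pow_of_le_one (by norm_num) (by norm_num) hk
      have hx0 : 0 < (1 / 2 : ℚ) ^ k := by positivity
      rw [pow_succ]
      set x := (1 / 2 : ℚ) ^ k
      have hp := pr_pos (u := 1 / 2) (by norm_num) (by norm_num) k
      norm_num at hx
      have d1 : 0 < 1 - x * (1 / 2) := by linarith
      rw [mul_assoc]
      apply mul_le_mul_of_nonneg_left _ hp.le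
      rw [div_mul_eq_mul_div, one_mul, div_le_iff₀ d1]
      nlinarith
  have h1 := h (max k 8) (le_max_right _ _)
  have h2 := pr_le_of_le (u := 1 / 2) (by norm_num) (by norm_num) (le_max_left k 8)
  have h3 := pr_pos (u := 1 / 2) (by norm_num) (by norm_num) (max k 8)
  have h4 : 0 ≤ pr (1 / 2) (max k 8) * (101 / 100 * (1 / 2 : ℚ) ^ (max k 8)) := by positivity
  have h5 : pr (1 / 2) 8 * (1 + 101 / 100 * (1 / 2 : ℚ) ^ 8) ≤ 347 / 100 := by norm_num [pr]
  nlinarith

theorem boundR [Finite F] (u : ℚ) (hu : u = 1 / (Nat.card F : ℚ)) (k : ℕ) : ∀ n,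
    B1 (Nat.card F) n (SR F (k + 2) n) (pr u k) := by
  have hq1 : 1 < Nat.card F := Finite.one_lt_card
  have hq0 : (0 : ℚ) < Nat.card F := by exact_mod_cast (by omega : 0 < Nat.card F)
  have hu0 : 0 < u := by rw [hu]; positivity
  have hu1 : u < 1 := by rw [hu, div_lt_one hq0]; exact_mod_cast hq1
  induction k with
  | zero =>
    intro n
    have e1 := step_one_B1 (F := F) (rec1 1 1 0 false 0 false) 0 n u hu SR_one
    rw [pow_zero] at e1
    exact e1.subset (stepR 1 n)
  | succ k ih =>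
    intro n
    refine (B1.subset (step_B1 (pr_pos hu0.le hu1 k).le ih _ (k + 2) 0 n (by omega) u hu)
      (stepR (k + 2) n)).mono (le_of_eq ?_)
    rw [pr, pow_zero, mul_one, show k + 2 - 1 = k + 1 by omega]

theorem card_free_le [Finite F] (u : ℚ) (hu : u = 1 / (Nat.card F : ℚ)) (n : ℕ) :
    (Nat.card {D : Dat F // D.Ok n ∧ (∀ j, Odd j → D.a j = 0) ∧ ∀ k, D.b k = 0} : ℚ) ≤
      pr u n * (Nat.card F : ℚ) ^ n := by
  have h := boundR (F := F) u hu n n
  have hsub : {D : Dat F | D.Ok n ∧ (∀ j, Odd j → D.a j = 0) ∧ ∀ k, D.b k = 0} ⊆ SR F (n + 2) n := by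
    rintro D ⟨hD, ha, hb⟩
    have h1 := Pd.of_ok hD (show n < n + 2 by omega) (show n < n + 1 by omega)
    refine ⟨?_, ha, hb⟩
    refine { h1 with bigb := fun k _ => hb k, size := ?_ }
    have h2 := h1.size
    have e1 : ∀ K : ℕ, ∑ k ∈ Finset.range K, k * D.b k = 0 := fun K =>
      Finset.sum_eq_zero fun k _ => by rw [hb, mul_zero]
    rw [e1] at h2 ⊢
    exact h2
  exact (B1.subset h hsub).2

end Free

section Main

variable {F : Type*} [Field F] [Finite F]

omit [Finite F] in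
theorem ok_ex_false (n : ℕ) (D : Dat F) : D.Ok n ↔ D.Ok n ∧ ex false D :=
  ⟨fun h => ⟨h, fun h' => absurd h' (by simp)⟩, fun h => h.1⟩

/-- finiteness of the set of normal forms -/
theorem finite_dat (n : ℕ) : Finite {D : Dat F // D.Ok n} := by
  have := (card_ok_le (F := F) false _ rfl n).1
  exact Finite.of_equiv _ (Equiv.subtypeEquivRight fun D => (ok_ex_false n D).symm)

theorem card_dat_le (n : ℕ) : (Nat.card {D : Dat F // D.Ok n} : ℚ) ≤
    tot false (1 / (Nat.card F : ℚ)) n * (Nat.card F : ℚ) ^ n := by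
  have := (card_ok_le (F := F) false _ rfl n).2
  rw [Nat.card_congr (Equiv.subtypeEquivRight fun D => ok_ex_false n D)]
  exact this

/-- **(N1)** -/
theorem card_dat_two (h : Nat.card F = 2) (n : ℕ) : 10 * Nat.card {D : Dat F // D.Ok n} ≤ 256 * 2 ^ n := by
  have h1 := card_dat_le (F := F) n
  rw [h] at h1
  have h2 := tot_half_false n
  have h3 : ((10 * Nat.card {D : Dat F // D.Ok n} : ℕ) : ℚ) ≤ ((256 * 2 ^ n : ℕ) : ℚ) := by
    push_cast at h1 ⊢
    have h4 : (0 : ℚ) < 2 ^ n := by positivity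
    nlinarith
  exact_mod_cast h3

/-- **(N2)** -/
theorem card_dat (h : 4 ≤ Nat.card F) (n : ℕ) : Nat.card {D : Dat F // D.Ok n} ≤ 15 * Nat.card F ^ n := by
  have h1 := card_dat_le (F := F) n
  have hq : (4 : ℚ) ≤ Nat.card F := by exact_mod_cast h
  have hu0 : (0 : ℚ) ≤ 1 / (Nat.card F : ℚ) := by positivity
  have hu : 1 / (Nat.card F : ℚ) ≤ 1 / 4 := one_div_le_one_div_of_le (by norm_num) hq
  have h2 := (tot_mono false hu0 hu (by norm_num) n).trans (tot_quarter n)
  have h3 : ((Nat.card {D : Dat F // D.Ok n} : ℕ) : ℚ) ≤ ((15 * Nat.card F ^ n : ℕ) : ℚ) := by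
    push_cast
    have h4 : (0 : ℚ) < (Nat.card F : ℚ) ^ n := by positivity
    nlinarith
  exact_mod_cast h3

/-- **(N3)** -/
theorem card_dat_free (h : Nat.card F = 2) (n : ℕ) :
    100 * Nat.card {D : Dat F // D.Ok n ∧ (∀ j, Odd j → D.a j = 0) ∧ ∀ k, D.b k = 0} ≤ 347 * 2 ^ n := by
  have h1 := card_free_le (F := F) _ rfl n
  rw [h] at h1
  have h2 := pr_half n
  have h3 : ((100 * Nat.card {D : Dat F // D.Ok n ∧ (∀ j, Odd j → D.a j = 0) ∧ ∀ k, D.b k = 0} : ℕ) : ℚ) ≤
      ((347 * 2 ^ n : ℕ) : ℚ) := by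
    push_cast at h1 ⊢
    have h4 : (0 : ℚ) < 2 ^ n := by positivity
    nlinarith
  exact_mod_cast h3

/-- **(N4)** -/
theorem card_dat_sp (n : ℕ) :
    5 * Nat.card {D : Dat F // D.Ok n ∧ D.s 1 = false ∧ D.t 1 = false} ≤ 76 * Nat.card F ^ n := by
  have h1 := (card_ok_le (F := F) true _ rfl n).2
  have e : Nat.card {D : Dat F // D.Ok n ∧ ex true D} =
      Nat.card {D : Dat F // D.Ok n ∧ D.s 1 = false ∧ D.t 1 = false} :=
    Nat.card_congr (Equiv.subtypeEquivRight fun D => by simp [ex])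
  rw [e] at h1
  have hq : (2 : ℚ) ≤ Nat.card F := by exact_mod_cast (Finite.one_lt_card : 1 < Nat.card F)
  have hu0 : (0 : ℚ) ≤ 1 / (Nat.card F : ℚ) := by positivity
  have hu : 1 / (Nat.card F : ℚ) ≤ 1 / 2 := one_div_le_one_div_of_le (by norm_num) hq
  have h2 := (tot_mono true hu0 hu (by norm_num) n).trans (tot_half_true n)
  unfold tot at h2
  have h3 : ((5 * Nat.card {D : Dat F // D.Ok n ∧ D.s 1 = false ∧ D.t 1 = false} : ℕ) : ℚ) ≤
      ((76 * Nat.card F ^ n : ℕ) : ℚ) := by
    push_cast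
    have h4 : (0 : ℚ) < (Nat.card F : ℚ) ^ n := by positivity
    nlinarith
  exact_mod_cast h3

end Main

end Cfsg.Agent.H173.Num
end
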