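import Mathlib
set_option linter.all false

set_option autoImplicit false

/-! Nilpotent endomorphisms with a one-dimensional kernel. -/

namespace Cfsg.Agent.H173.NilOne

open Module

variable {K V : Type*} [Field K] [AddCommGroup V] [Module K V] [FiniteDimensional K V]

/-- `dim ker N^(k+1) ≤ dim ker N^k + dim ker N`. -/
theorem finrank_ker_pow_succ_le (N : End K V) (k : ℕ) :
    finrank K (LinearMap.ker (N ^ (k + 1))) ≤
      finrank K (LinearMap.ker (N ^ k)) + finrank K (LinearMap.ker N) := by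
  let g : LinearMap.ker (N ^ (k + 1)) →ₗ[K] V := (N ^ k).domRestrict (LinearMap.ker (N ^ (k + 1)))
  have h1 := LinearMap.finrank_range_add_finrank_ker g
  have h2 : finrank K (LinearMap.range g) ≤ finrank K (LinearMap.ker N) := by
    apply Submodule.finrank_mono
    rintro _ ⟨⟨x, hx⟩, rfl⟩
    show N ((N ^ k) x) = 0
    rw [← Module.End.mul_apply, ← pow_succ']
    exact hx
  have h3 : finrank K (LinearMap.ker g) ≤ finrank K (LinearMap.ker (N ^ k)) := by
    have hmap : (LinearMap.ker g).map (LinearMap.ker (N ^ (k + 1))).subtype ≤ LinearMap.ker (N ^ k) := by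
      rintro _ ⟨⟨x, hx⟩, hx', rfl⟩
      exact hx'
    calc finrank K (LinearMap.ker g) = finrank K ((LinearMap.ker g).map (LinearMap.ker (N ^ (k + 1))).subtype) :=
          (Submodule.finrank_map_subtype_eq _ _).symm
      _ ≤ _ := Submodule.finrank_mono hmap
  omega

/-- If `dim ker N ≤ 1` then `dim ker N^k ≤ k`. -/
theorem finrank_ker_pow_le (N : End K V) (h : finrank K (LinearMap.ker N) ≤ 1) (k : ℕ) :
    finrank K (LinearMap.ker (N ^ k)) ≤ k := by
  induction k with
  | zero => simp [Module.End.one_eq_id]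
  | succ k ih =>
    have := finrank_ker_pow_succ_le N k
    omega

/-- If `N` is nilpotent and `W` is `N`-invariant of dimension `d`, then `W ≤ ker N^d`. -/
theorem le_ker_pow_finrank (N : End K V) (hN : IsNilpotent N) (W : Submodule K V)
    (hW : ∀ v ∈ W, N v ∈ W) : W ≤ LinearMap.ker (N ^ (finrank K W)) := by
  obtain ⟨n, hn⟩ := hN
  intro w hw
  let M : End K W := N.restrict hW
  have hM : ∀ (k : ℕ) (x : W), ((M ^ k) x : V) = (N ^ k) (x : V) := by
    intro k
    induction k with
    | zero => intro x; rfl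
    | succ k ih =>
      intro x
      rw [pow_succ, Module.End.mul_apply, ih, pow_succ, Module.End.mul_apply]
      rfl
  have h1 := Module.End.ker_pow_le_ker_pow_finrank M n
  have h2 : (⟨w, hw⟩ : W) ∈ LinearMap.ker (M ^ n) := by
    apply Subtype.ext
    rw [hM, hn]; rfl
  have h3 := h1 h2
  have h4 : ((M ^ (finrank K W)) ⟨w, hw⟩ : V) = 0 := by
    rw [LinearMap.mem_ker.1 h3]; rfl
  rw [hM] at h4
  exact h4

/-- If `N ^ n = 0`, `dim V = n` and `dim ker N ≤ 1`, then `ker N^d = range N^(n-d)`. -/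
theorem ker_pow_eq_range_pow (N : End K V) {n : ℕ} (hn : N ^ n = 0) (hV : finrank K V = n)
    (h : finrank K (LinearMap.ker N) ≤ 1) {d : ℕ} (hd : d ≤ n) :
    LinearMap.ker (N ^ d) = LinearMap.range (N ^ (n - d)) := by
  symm
  apply Submodule.eq_of_le_of_finrank_le
  · rintro _ ⟨x, rfl⟩
    rw [LinearMap.mem_ker, ← Module.End.mul_apply, ← pow_add, Nat.add_sub_cancel' hd, hn]
    rfl
  · have h1 := LinearMap.finrank_range_add_finrank_ker (N ^ (n - d))
    have h2 := finrank_ker_pow_le N h (n - d)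
    have h3 := finrank_ker_pow_le N h d
    omega

/-- If `N ^ n = 0`, `dim V = n` and `dim ker N ≤ 1`, then `N^(n-1) ≠ 0` when `n ≥ 1`. -/
theorem exists_pow_ne_zero (N : End K V) {n : ℕ} (hV : finrank K V = n) (hn : 1 ≤ n)
    (h : finrank K (LinearMap.ker N) ≤ 1) : ∃ x, (N ^ (n - 1)) x ≠ 0 := by
  by_contra hcon
  push Not at hcon
  have h1 : LinearMap.ker (N ^ (n - 1)) = ⊤ := by
    rw [eq_top_iff]; intro x _; exact hcon x
  have h2 := finrank_ker_pow_le N h (n - 1)
  rw [h1, finrank_top] at h2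
  omega

omit [FiniteDimensional K V] in
/-- The vectors `x, N x, …, N^(n-1) x` are linearly independent when `N^n = 0` and `N^(n-1) x ≠ 0`. -/
theorem linearIndependent_pow (N : End K V) {n : ℕ} (hn : N ^ n = 0) {x : V}
    (hx : (N ^ (n - 1)) x ≠ 0) : LinearIndependent K (fun i : Fin n => (N ^ (i : ℕ)) x) := by
  rw [Fintype.linearIndependent_iff]
  intro g hg
  by_contra hcon
  push Not at hcon
  obtain ⟨i0, hi0⟩ := hcon
  -- minimal index with nonzero coefficient
  have hex : ∃ j : ℕ, ∃ hj : j < n, g ⟨j, hj⟩ ≠ 0 := ⟨i0, i0.2, hi0⟩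
  classical
  let j := Nat.find hex
  obtain ⟨hj, hgj⟩ := Nat.find_spec hex
  have hmin : ∀ i : Fin n, (i : ℕ) < j → g i = 0 := by
    intro i hi
    by_contra hne
    exact Nat.find_min hex hi ⟨i.2, hne⟩
  have h1 : (N ^ (n - 1 - j)) (∑ i : Fin n, g i • (N ^ (i : ℕ)) x) = g ⟨j, hj⟩ • (N ^ (n - 1)) x := by
    rw [map_sum, Finset.sum_eq_single ⟨j, hj⟩]
    · rw [map_smul, ← Module.End.mul_apply, ← pow_add]
      congr 3
      have : j < n := hj
      simp only
      omega
    · intro i _ hne
      rw [map_smul, ← Module.End.mul_apply, ← pow_add]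
      rcases lt_trichotomy (i : ℕ) j with hlt | heq | hgt
      · rw [hmin i hlt, zero_smul]
      · exact absurd (Fin.ext heq) hne
      · have : n ≤ n - 1 - j + i := by
          have : j < n := hj
          omega
        obtain ⟨r, hr⟩ := Nat.exists_eq_add_of_le this
        rw [hr, pow_add, hn, zero_mul, LinearMap.zero_apply, smul_zero]
    · intro h; exact absurd (Finset.mem_univ _) h
  rw [hg, map_zero] at h1
  rcases smul_eq_zero.1 h1.symm with h2 | h2
  · exact hgj h2
  · exact hx h2

end Cfsg.Agent.H173.NilOne
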